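import Groth.Agent.Misc12.EtNbhdApprox.Chart
import Groth.Prelude.Def_Found

/-!
Approximating a map into a completed stalk on an étale neighbourhood.
-/

set_option autoImplicit false

universe u

open AlgebraicGeometry CategoryTheory IsLocalRing

namespace Groth.Agent.Misc12.EtNbhdApprox

/-- The data of an approximation on affine charts. -/
structure ChartData {X Y : Scheme.{u}} [IsLocallyNoetherian X] {S : Scheme.{u}} (p : X ⟶ S) (q : Y ⟶ S)
    (x : X) (y : Y) (φ : Y.presheaf.stalk y →+* Cpl (X.presheaf.stalk x)) (n : ℕ) where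
  W : X.Opens
  hW : IsAffineOpen W
  hxW : x ∈ W
  Y₀ : Y.Opens
  hY₀ : IsAffineOpen Y₀
  hyY : y ∈ Y₀
  E : CommRingCat.{u}
  γ : Γ(X, W) ⟶ E
  δ : Γ(Y, Y₀) ⟶ E
  u : Spec E
  ψ : E →+* Cpl (X.presheaf.stalk x)
  etale : γ.hom.Etale
  finiteType : δ.hom.FiniteType
  noetherian : IsNoetherianRing Γ(Y, Y₀)
  comap_γ : u.asIdeal.comap γ.hom = (hW.primeIdealOf ⟨x, hxW⟩).asIdeal
  comap_δ : u.asIdeal.comap δ.hom = (hY₀.primeIdealOf ⟨y, hyY⟩).asIdeal
  comm : chartHom hY₀ δ ≫ q = chartHom hW γ ≫ p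
  ψ_γ : ∀ c, ψ (γ c) = algebraMap _ _ (X.presheaf.germ W x hxW c)
  surj : ∀ e : E, ∃ r s : Γ(X, W), s ∉ (hW.primeIdealOf ⟨x, hxW⟩).asIdeal ∧ γ s * e - γ r ∈ u.asIdeal
  mem : ∀ e ∈ u.asIdeal, ψ e ∈ maximalIdeal (Cpl (X.presheaf.stalk x))
  approx : ∀ b, AdicCompletion.evalₐ (maximalIdeal (X.presheaf.stalk x)) n (φ (Y.presheaf.germ Y₀ y hyY b)) =
    AdicCompletion.evalₐ (maximalIdeal (X.presheaf.stalk x)) n (ψ (δ b))

theorem exists_chartData {X Y S : Scheme.{u}} [IsLocallyNoetherian S] [IsLocallyNoetherian X]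
    (p : X ⟶ S) (q : Y ⟶ S) [LocallyOfFiniteType p] [LocallyOfFiniteType q] (x : X) (y : Y)
    (hxy : p x = q y) (hG : CAlg.IsGRing (S.presheaf.stalk (p x)))
    (φ : Y.presheaf.stalk y →+* Cpl (X.presheaf.stalk x))
    (hφ : φ.comp ((q.stalkMap y).hom.comp (S.presheaf.stalkCongr (Inseparable.of_eq hxy)).hom.hom) =
      (algebraMap (X.presheaf.stalk x) (Cpl (X.presheaf.stalk x))).comp (p.stalkMap x).hom)
    (hloc : ∀ b ∈ maximalIdeal (Y.presheaf.stalk y), φ b ∈ maximalIdeal (Cpl (X.presheaf.stalk x)))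
    (n : ℕ) (hn : 1 ≤ n) : Nonempty (ChartData p q x y φ n) := by
  obtain ⟨_, ⟨V, hV, rfl⟩, hsV, -⟩ :=
    S.isBasis_affineOpens.exists_subset_of_mem_open (Set.mem_univ (p x)) isOpen_univ
  obtain ⟨_, ⟨W, hW, rfl⟩, hxW, hWV⟩ :=
    X.isBasis_affineOpens.exists_subset_of_mem_open (show x ∈ p ⁻¹ᵁ V from hsV) (p ⁻¹ᵁ V).isOpen
  obtain ⟨_, ⟨Y₀, hY₀, rfl⟩, hyY, hYV⟩ :=
    Y.isBasis_affineOpens.exists_subset_of_mem_open
      (show y ∈ q ⁻¹ᵁ V from (show q y ∈ V from hxy ▸ hsV)) (q ⁻¹ᵁ V).isOpen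
  change W ≤ p ⁻¹ᵁ V at hWV
  change Y₀ ≤ q ⁻¹ᵁ V at hYV
  have : IsNoetherianRing Γ(S, V) := IsLocallyNoetherian.component_noetherian ⟨V, hV⟩
  let algC : Algebra Γ(S, V) Γ(X, W) := (p.appLE V W hWV).hom.toAlgebra
  let algB : Algebra Γ(S, V) Γ(Y, Y₀) := (q.appLE V Y₀ hYV).hom.toAlgebra
  have : Algebra.FiniteType Γ(S, V) Γ(X, W) := p.finiteType_appLE hV hW hWV
  have : Algebra.FiniteType Γ(S, V) Γ(Y, Y₀) := q.finiteType_appLE hV hY₀ hYV
  have : IsNoetherianRing Γ(X, W) := Algebra.FiniteType.isNoetherianRing Γ(S, V) _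
  have : Algebra.FinitePresentation Γ(S, V) Γ(Y, Y₀) :=
    Algebra.FinitePresentation.of_finiteType.1 inferInstance
  let P := (hW.primeIdealOf ⟨x, hxW⟩).asIdeal
  let Q := (hV.primeIdealOf ⟨p x, hsV⟩).asIdeal
  let : Algebra Γ(S, V) (S.presheaf.stalk (p x)) := S.presheaf.algebra_section_stalk ⟨p x, hsV⟩
  let : Algebra Γ(X, W) (X.presheaf.stalk x) := X.presheaf.algebra_section_stalk ⟨x, hxW⟩
  have : IsLocalization.AtPrime (S.presheaf.stalk (p x)) Q := hV.isLocalization_stalk ⟨p x, hsV⟩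
  have : IsLocalization.AtPrime (X.presheaf.stalk x) P := hW.isLocalization_stalk ⟨x, hxW⟩
  have hPQ : P.comap (algebraMap Γ(S, V) Γ(X, W)) = Q := by
    ext r
    rw [Ideal.mem_comap, ← IsLocalization.AtPrime.to_map_mem_maximal_iff (X.presheaf.stalk x) P,
      ← IsLocalization.AtPrime.to_map_mem_maximal_iff (S.presheaf.stalk (p x)) Q]
    show X.presheaf.germ W x hxW (p.appLE V W hWV r) ∈ _ ↔ S.presheaf.germ V (p x) hsV r ∈ _
    rw [appLE_germ, mem_maximalIdeal, mem_maximalIdeal, mem_nonunits_iff, mem_nonunits_iff,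
      isUnit_map_iff (p.stalkMap x).hom]
  have hGQ : CAlg.IsGRing (Localization.AtPrime Q) := Groth.Ega4Algebra1.isGRing_of_ringEquiv
    (IsLocalization.algEquiv Q.primeCompl (S.presheaf.stalk (p x)) (Localization.AtPrime Q)).toRingEquiv hG
  have hGL : CAlg.IsGRing (X.presheaf.stalk x) := isGRing_of_isLocalization P _ Q hPQ hGQ
  let : Algebra Γ(S, V) (X.presheaf.stalk x) :=
    ((algebraMap Γ(X, W) (X.presheaf.stalk x)).comp (algebraMap Γ(S, V) Γ(X, W))).toAlgebra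
  have : IsScalarTower Γ(S, V) Γ(X, W) (X.presheaf.stalk x) := IsScalarTower.of_algebraMap_eq fun _ => rfl
  let f : Γ(Y, Y₀) →ₐ[Γ(S, V)] Cpl (X.presheaf.stalk x) :=
    { φ.comp (Y.presheaf.germ Y₀ y hyY).hom with
      commutes' := fun r => by
        show φ (Y.presheaf.germ Y₀ y hyY (q.appLE V Y₀ hYV r)) = _
        rw [appLE_germ, IsScalarTower.algebraMap_apply Γ(S, V) (X.presheaf.stalk x) (Cpl (X.presheaf.stalk x))]
        show _ = algebraMap _ _ (X.presheaf.germ W x hxW (p.appLE V W hWV r))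
        rw [appLE_germ]
        have h1 := RingHom.congr_fun hφ (S.presheaf.germ V (p x) hsV r)
        simp only [RingHom.comp_apply] at h1
        refine Eq.trans (congrArg φ (congrArg (q.stalkMap y).hom ?_)) h1
        rw [TopCat.Presheaf.stalkCongr_hom]
        exact (TopCat.Presheaf.germ_stalkSpecializes_apply _ _ _ _).symm }
  obtain ⟨E, _, algE, _, _, P', ψ, g, hE, hP', hcomap, hpt, happrox⟩ :=
    exists_point_approx P (X.presheaf.stalk x) (isRegularHom_cpl P _ hGL) f n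
  have : Algebra.FinitePresentation Γ(X, W) E := hE.finitePresentation
  have : Algebra.FiniteType Γ(S, V) E :=
    Algebra.FiniteType.trans (S := Γ(X, W)) inferInstance inferInstance
  let algBE : Algebra Γ(Y, Y₀) E := g.toRingHom.toAlgebra
  have : IsScalarTower Γ(S, V) Γ(Y, Y₀) E := IsScalarTower.of_algebraMap_eq fun r => (g.commutes r).symm
  refine ⟨⟨W, hW, hxW, Y₀, hY₀, hyY, CommRingCat.of E, CommRingCat.ofHom (algebraMap Γ(X, W) E),
    CommRingCat.ofHom g.toRingHom, ⟨P', hP'⟩, ψ.toRingHom, ?_,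
    Algebra.FiniteType.of_restrictScalars_finiteType Γ(S, V) Γ(Y, Y₀) E,
    Algebra.FiniteType.isNoetherianRing Γ(S, V) _, hcomap, ?_, ?_, fun c => ?_, hpt.surj, hpt.mem,
    happrox⟩⟩
  · show RingHom.Etale (algebraMap Γ(X, W) E)
    exact RingHom.etale_algebraMap.2 hE
  · ext b
    rw [Ideal.mem_comap]
    show g b ∈ P' ↔ _
    let : Algebra Γ(Y, Y₀) (Y.presheaf.stalk y) := Y.presheaf.algebra_section_stalk ⟨y, hyY⟩
    have : IsLocalization.AtPrime (Y.presheaf.stalk y) (hY₀.primeIdealOf ⟨y, hyY⟩).asIdeal :=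
      hY₀.isLocalization_stalk ⟨y, hyY⟩
    have h1 := happrox b
    rw [← sub_eq_zero, ← map_sub, ev_eq_zero_iff] at h1
    have h1' : f b - ψ (g b) ∈ maximalIdeal (Cpl (X.presheaf.stalk x)) :=
      Ideal.pow_le_self (Nat.pos_iff_ne_zero.1 hn) h1
    constructor
    · intro hb
      by_contra hbQ
      have h2 := Ideal.add_mem _ h1' (hpt.mem _ hb)
      rw [sub_add_cancel] at h2
      exact (mem_maximalIdeal _).1 h2
        ((IsLocalization.map_units (Y.presheaf.stalk y)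
          (⟨b, hbQ⟩ : (hY₀.primeIdealOf ⟨y, hyY⟩).asIdeal.primeCompl)).map φ)
    · intro hbQ
      by_contra hb
      obtain ⟨r, s, hs, hr⟩ := hpt.surj (g b)
      have h2 := Ideal.sub_mem _
        (hloc _ ((IsLocalization.AtPrime.to_map_mem_maximal_iff (Y.presheaf.stalk y) _ b).2 hbQ)) h1'
      change f b - (f b - ψ (g b)) ∈ _ at h2
      rw [sub_sub_cancel] at h2
      have hrP : r ∉ P := fun hrP => by
        rw [← hcomap] at hrP
        have h3 := Ideal.add_mem _ hr hrP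
        rw [sub_add_cancel] at h3
        exact (hP'.mem_or_mem h3).elim (fun h4 => hs (hcomap ▸ h4)) hb
      have h3 := hpt.mem _ hr
      rw [map_sub, map_mul, ψ.commutes, ψ.commutes] at h3
      have h4 := Ideal.sub_mem _ (Ideal.mul_mem_left _ (algebraMap _ (Cpl (X.presheaf.stalk x)) s) h2) h3
      rw [sub_sub_cancel] at h4
      refine (mem_maximalIdeal _).1 h4 ?_
      rw [IsScalarTower.algebraMap_apply Γ(X, W) (X.presheaf.stalk x) (Cpl (X.presheaf.stalk x))]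
      exact (IsLocalization.map_units (X.presheaf.stalk x) (⟨r, hrP⟩ : P.primeCompl)).map _
  · have h1 : q.appLE V Y₀ hYV ≫ CommRingCat.ofHom g.toRingHom =
        p.appLE V W hWV ≫ CommRingCat.ofHom (algebraMap Γ(X, W) E) :=
      CommRingCat.hom_ext (RingHom.ext fun r => (g.commutes r).trans
        (IsScalarTower.algebraMap_apply Γ(S, V) Γ(X, W) E r))
    rw [chartHom, chartHom, Category.assoc, Category.assoc,
      ← IsAffineOpen.SpecMap_appLE_fromSpec q hV hY₀ hYV,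
      ← IsAffineOpen.SpecMap_appLE_fromSpec p hV hW hWV, ← Spec.map_comp_assoc, ← Spec.map_comp_assoc, h1]
  · show ψ (algebraMap Γ(X, W) E c) = _
    rw [ψ.commutes]
    rfl

variable {X Y S : Scheme.{u}} [IsLocallyNoetherian X] {p : X ⟶ S} {q : Y ⟶ S} {x : X} {y : Y}
  {φ : Y.presheaf.stalk y →+* Cpl (X.presheaf.stalk x)} {n : ℕ}

theorem ChartData.he (d : ChartData p q x y φ n) : chartHom d.hW d.γ d.u = x :=
  chartHom_apply d.hW d.γ d.u d.hxW d.comap_γ

theorem ChartData.hf (d : ChartData p q x y φ n) : chartHom d.hY₀ d.δ d.u = y :=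
  chartHom_apply d.hY₀ d.δ d.u d.hyY d.comap_δ

/-- The map of local rings from the stalk at `x`. -/
noncomputable def ChartData.ε (d : ChartData p q x y φ n) :
    X.presheaf.stalk x →+* (Spec d.E).presheaf.stalk d.u :=
  ((chartHom d.hW d.γ).stalkMap d.u).hom.comp
    (X.presheaf.stalkCongr (Inseparable.of_eq d.he)).inv.hom

theorem ChartData.ε_germ (d : ChartData p q x y φ n) (c : Γ(X, d.W)) :
    d.ε (X.presheaf.germ d.W x d.hxW c) = toStk d.E d.u (d.γ c) :=
  stalkMap_chartHom_apply d.hW d.γ d.u d.hxW d.he c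

theorem ChartData.ε_mem (d : ChartData p q x y φ n) {a : X.presheaf.stalk x}
    (ha : a ∈ maximalIdeal _) : d.ε a ∈ maximalIdeal _ :=
  stalkMap_mem _ _ (stalk_congr_mem _ ha)

theorem ChartData.cong_pow (d : ChartData p q x y φ n) {k : ℕ} {e : d.E} {l : X.presheaf.stalk x}
    (hl : AdicCompletion.evalₐ (maximalIdeal _) k (d.ψ e) = Ideal.Quotient.mk _ l) :
    toStk d.E d.u e - d.ε l ∈ maximalIdeal ((Spec d.E).presheaf.stalk d.u) ^ k := by
  let : Algebra Γ(X, d.W) (X.presheaf.stalk x) := X.presheaf.algebra_section_stalk ⟨x, d.hxW⟩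
  have : IsLocalization.AtPrime (X.presheaf.stalk x) (d.hW.primeIdealOf ⟨x, d.hxW⟩).asIdeal :=
    d.hW.isLocalization_stalk ⟨x, d.hxW⟩
  let : Algebra Γ(X, d.W) d.E := d.γ.hom.toAlgebra
  have : Algebra.Etale Γ(X, d.W) d.E := RingHom.etale_algebraMap.1 d.etale
  let : Algebra d.E ((Spec d.E).presheaf.stalk d.u) := (toStk d.E d.u).toAlgebra
  have : IsLocalization.AtPrime ((Spec d.E).presheaf.stalk d.u) d.u.asIdeal := isLocalization_toStk d.E d.u
  let ψ' : d.E →ₐ[Γ(X, d.W)] Cpl (X.presheaf.stalk x) := { d.ψ with commutes' := d.ψ_γ }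
  exact IsPoint.cong_pow (ψ := ψ') d.ε
    (fun e he => (IsLocalization.AtPrime.to_map_mem_maximal_iff _ d.u.asIdeal e).2 he)
    (fun a ha => d.ε_mem ha) d.ε_germ ⟨d.surj, d.mem⟩ hl

theorem ChartData.exists_sub_mem (d : ChartData p q x y φ n) (k : ℕ)
    (z : (Spec d.E).presheaf.stalk d.u) : ∃ l, z - d.ε l ∈ maximalIdeal _ ^ k := by
  let : Algebra Γ(X, d.W) (X.presheaf.stalk x) := X.presheaf.algebra_section_stalk ⟨x, d.hxW⟩
  have : IsLocalization.AtPrime (X.presheaf.stalk x) (d.hW.primeIdealOf ⟨x, d.hxW⟩).asIdeal :=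
    d.hW.isLocalization_stalk ⟨x, d.hxW⟩
  let : Algebra Γ(X, d.W) d.E := d.γ.hom.toAlgebra
  have : Algebra.Etale Γ(X, d.W) d.E := RingHom.etale_algebraMap.1 d.etale
  let : Algebra d.E ((Spec d.E).presheaf.stalk d.u) := (toStk d.E d.u).toAlgebra
  have : IsLocalization.AtPrime ((Spec d.E).presheaf.stalk d.u) d.u.asIdeal := isLocalization_toStk d.E d.u
  let ψ' : d.E →ₐ[Γ(X, d.W)] Cpl (X.presheaf.stalk x) := { d.ψ with commutes' := d.ψ_γ }
  exact IsPoint.exists_sub_mem_of_isLocalization (ψ := ψ') (P' := d.u.asIdeal) d.ε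
    (fun e he => (IsLocalization.AtPrime.to_map_mem_maximal_iff _ d.u.asIdeal e).2 he)
    (fun a ha => d.ε_mem ha) d.ε_germ ⟨d.surj, d.mem⟩ k z

theorem ChartData.residue_bijective (d : ChartData p q x y φ n) :
    Function.Bijective ((chartHom d.hW d.γ).residueFieldMap d.u) := by
  refine bijective_residueFieldMap _ _ fun z => ?_
  obtain ⟨l, hl⟩ := d.exists_sub_mem 1 z
  rw [pow_one] at hl
  exact ⟨_, hl⟩

/-- The two maps to the étale neighbourhood agree modulo `n`th powers. -/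
theorem ChartData.congr (d : ChartData p q x y φ n)
    (hloc : ∀ b ∈ maximalIdeal (Y.presheaf.stalk y), φ b ∈ maximalIdeal (Cpl (X.presheaf.stalk x)))
    (b : Y.presheaf.stalk y) (c : X.presheaf.stalk x)
    (h : AdicCompletion.evalₐ (maximalIdeal _) n (φ b) = Ideal.Quotient.mk _ c) :
    Ideal.Quotient.mk (maximalIdeal ((Spec d.E).presheaf.stalk d.u) ^ n)
        (((chartHom d.hY₀ d.δ).stalkMap d.u).hom
          ((Y.presheaf.stalkCongr (Inseparable.of_eq d.hf)).inv.hom b)) =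
      Ideal.Quotient.mk (maximalIdeal ((Spec d.E).presheaf.stalk d.u) ^ n) (d.ε c) := by
  let : Algebra Γ(Y, d.Y₀) (Y.presheaf.stalk y) := Y.presheaf.algebra_section_stalk ⟨y, d.hyY⟩
  have : IsLocalization.AtPrime (Y.presheaf.stalk y) (d.hY₀.primeIdealOf ⟨y, d.hyY⟩).asIdeal :=
    d.hY₀.isLocalization_stalk ⟨y, d.hyY⟩
  let εY : Y.presheaf.stalk y →+* (Spec d.E).presheaf.stalk d.u :=
    ((chartHom d.hY₀ d.δ).stalkMap d.u).hom.comp (Y.presheaf.stalkCongr (Inseparable.of_eq d.hf)).inv.hom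
  let η : X.presheaf.stalk x ⧸ maximalIdeal (X.presheaf.stalk x) ^ n →+*
      (Spec d.E).presheaf.stalk d.u ⧸ maximalIdeal ((Spec d.E).presheaf.stalk d.u) ^ n :=
    Ideal.quotientMap _ d.ε fun a ha => map_pow_le d.ε (fun a ha => d.ε_mem ha) n ha
  have key : (Ideal.Quotient.mk _).comp εY =
      (η.comp (AdicCompletion.evalₐ (maximalIdeal (X.presheaf.stalk x)) n).toRingHom).comp φ := by
    refine IsLocalization.ringHom_ext (d.hY₀.primeIdealOf ⟨y, d.hyY⟩).asIdeal.primeCompl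
      (RingHom.ext fun b₀ => ?_)
    show Ideal.Quotient.mk _ (εY (Y.presheaf.germ d.Y₀ y d.hyY b₀)) =
      η (AdicCompletion.evalₐ _ n (φ (Y.presheaf.germ d.Y₀ y d.hyY b₀)))
    obtain ⟨l, hl⟩ := exists_ev_eq _ n (d.ψ (d.δ b₀))
    rw [d.approx, hl]
    show _ = Ideal.quotientMap _ d.ε _ (Ideal.Quotient.mk _ l)
    rw [Ideal.quotientMap_mk]
    refine (congrArg _ (stalkMap_chartHom_apply d.hY₀ d.δ d.u d.hyY d.hf b₀)).trans ?_
    exact Ideal.Quotient.eq.2 (d.cong_pow hl)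
  refine (RingHom.congr_fun key b).trans ?_
  show η (AdicCompletion.evalₐ _ n (φ b)) = _
  rw [h]
  exact Ideal.quotientMap_mk

end Groth.Agent.Misc12.EtNbhdApprox
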