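import Groth.Agent.Misc12.EtNbhdApprox.Point
import Groth.Agent.Ega4Algebra1.GRingDescent
import Groth.Agent.Ega4Algebra1.ExcellentLoc
import Groth.Agent.PropsBasic.RegularCompletion
import Groth.Agent.S0543
import Mathlib.AlgebraicGeometry.Morphisms.Etale
import Mathlib.AlgebraicGeometry.Morphisms.FiniteType

/-!
Affine charts for approximating morphisms by étale neighbourhoods.
-/

set_option autoImplicit false

universe u

open AlgebraicGeometry CategoryTheory IsLocalRing
open scoped TensorProduct

namespace Groth.Agent.Misc12.EtNbhdApprox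

/-- A localization at a prime of an algebra of finite type over a ring whose local ring below is a
G-ring is a G-ring. -/
theorem isGRing_of_isLocalization {R C : Type u} [CommRing R] [CommRing C] [Algebra R C]
    [Algebra.FiniteType R C] (P : Ideal C) [P.IsPrime] (L : Type u) [CommRing L] [Algebra C L]
    [IsLocalization.AtPrime L P] (Q : Ideal R) [Q.IsPrime] (hQ : P.comap (algebraMap R C) = Q)
    (hG : CAlg.IsGRing (Localization.AtPrime Q)) : CAlg.IsGRing L := by
  let RQ := Localization.AtPrime Q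
  let T := Localization (Algebra.algebraMapSubmonoid C Q.primeCompl)
  have hT : CAlg.IsGRing T := by
    have h1 : CAlg.IsGRing (RQ ⊗[R] C) := Groth.Ega4Algebra1.isGRing_of_finiteType RQ hG _
    let : Algebra C (RQ ⊗[R] C) := Algebra.TensorProduct.rightAlgebra
    exact Groth.Ega4Algebra1.isGRing_of_ringEquiv
      (IsLocalization.algEquiv (Algebra.algebraMapSubmonoid C Q.primeCompl) (RQ ⊗[R] C) T).toRingEquiv h1
  have hle : Algebra.algebraMapSubmonoid C Q.primeCompl ≤ P.primeCompl := by
    rintro _ ⟨r, hr, rfl⟩ hrP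
    exact hr (hQ ▸ hrP)
  let : Algebra T L := (IsLocalization.lift (M := Algebra.algebraMapSubmonoid C Q.primeCompl)
    (g := algebraMap C L) fun c => IsLocalization.map_units L (⟨c, hle c.2⟩ : P.primeCompl)).toAlgebra
  have : IsScalarTower C T L := IsScalarTower.of_algebraMap_eq fun c =>
    (IsLocalization.lift_eq _ c).symm
  let S := P.primeCompl.map (algebraMap C T)
  have : IsLocalization S L :=
    IsLocalization.isLocalization_of_submonoid_le T L
      (Algebra.algebraMapSubmonoid C Q.primeCompl) P.primeCompl hle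
  exact Groth.Ega4Algebra1.isGRing_of_ringEquiv
    (IsLocalization.algEquiv S (Localization S) L).toRingEquiv
    (Groth.Ega4Algebra1.isGRing_localization hT S)

theorem isRegularHom_cpl {C : Type u} [CommRing C] [IsNoetherianRing C] (P : Ideal C) [P.IsPrime]
    (L : Type u) [CommRing L] [Algebra C L] [IsLocalRing L] [IsLocalization.AtPrime L P]
    (hG : CAlg.IsGRing L) : CAlg.IsRegularHom C (Cpl L) := by
  have : IsNoetherianRing L := hG.1
  have : IsNoetherianRing (Cpl L) := Groth.Agent.S0543.result L (maximalIdeal L)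
  have hLC : CAlg.IsRegularHom L (Cpl L) :=
    Groth.PropsBasic.RegularCompletion.isRegularHom_adicCompletion _ fun m _ => hG.2 m
  have hRL : CAlg.IsRegularHom C L := by
    refine Groth.Calg4.isRegularHom_of_isRegularRing_tensor (IsLocalization.flat _ P.primeCompl) fun K _ _ _ => ?_
    exact Groth.Calg4.isRegularRing_of_isLocalization _ (Algebra.algebraMapSubmonoid K P.primeCompl)
  exact Groth.Calg4.IsRegularHom.trans hRL hLC fun q _ => by
    have : IsNoetherianRing (TensorProduct C (Cpl L) q.ResidueField) :=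
      Algebra.EssFiniteType.isNoetherianRing (Cpl L) _
    exact isNoetherianRing_of_ringEquiv _ (Algebra.TensorProduct.comm C (Cpl L) q.ResidueField).toRingEquiv

variable {X : Scheme.{u}} {W : X.Opens}

/-- The morphism to a scheme given by a ring map out of an affine chart. -/
noncomputable def chartHom (hW : IsAffineOpen W) {E : CommRingCat.{u}} (γ : Γ(X, W) ⟶ E) :
    Spec E ⟶ X :=
  Spec.map γ ≫ hW.fromSpec

/-- The map from a ring to the local ring of its spectrum. -/
noncomputable def toStk (E : CommRingCat.{u}) (u : Spec E) : E →+* (Spec E).presheaf.stalk u :=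
  (StructureSheaf.toStalk E u).hom

theorem isLocalization_toStk (E : CommRingCat.{u}) (u : Spec E) :
    letI := (toStk E u).toAlgebra
    IsLocalization.AtPrime ((Spec E).presheaf.stalk u) u.asIdeal :=
  inferInstanceAs (IsLocalization.AtPrime ((Spec.structureSheaf E).presheaf.stalk u) u.asIdeal)

theorem chartHom_apply (hW : IsAffineOpen W) {E : CommRingCat.{u}} (γ : Γ(X, W) ⟶ E) (u : Spec E)
    {x : X} (hx : x ∈ W) (h : u.asIdeal.comap γ.hom = (hW.primeIdealOf ⟨x, hx⟩).asIdeal) :
    chartHom hW γ u = x := by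
  have h1 : Spec.map γ u = hW.primeIdealOf ⟨x, hx⟩ := PrimeSpectrum.ext h
  rw [chartHom, Scheme.Hom.comp_apply, h1]
  exact hW.fromSpec_primeIdealOf ⟨x, hx⟩

theorem germ_stalkMap_chartHom (hW : IsAffineOpen W) {E : CommRingCat.{u}} (γ : Γ(X, W) ⟶ E)
    (u : Spec E) (hx : chartHom hW γ u ∈ W) :
    X.presheaf.germ W (chartHom hW γ u) hx ≫ (chartHom hW γ).stalkMap u =
      γ ≫ StructureSheaf.toStalk E u := by
  have h := Scheme.SpecMap_stalkMap_fromSpecStalk (chartHom hW γ) (x := u)
  rw [← hW.fromSpecStalk_eq_fromSpecStalk hx, IsAffineOpen.fromSpecStalk, Spec.fromSpecStalk_eq',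
    ← Spec.map_comp_assoc] at h
  have h2 : Spec.map (X.presheaf.germ W (chartHom hW γ u) hx ≫ (chartHom hW γ).stalkMap u) ≫ hW.fromSpec =
      Spec.map (γ ≫ StructureSheaf.toStalk E u) ≫ hW.fromSpec := by
    rw [h, chartHom, Spec.map_comp_assoc]; rfl
  exact Spec.map_injective ((cancel_mono hW.fromSpec).1 h2)

theorem stalkMap_chartHom_apply (hW : IsAffineOpen W) {E : CommRingCat.{u}} (γ : Γ(X, W) ⟶ E)
    (u : Spec E) {x : X} (hx : x ∈ W) (he : chartHom hW γ u = x) (c : Γ(X, W)) :
    ((chartHom hW γ).stalkMap u).hom ((X.presheaf.stalkCongr (Inseparable.of_eq he)).inv.hom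
      (X.presheaf.germ W x hx c)) = toStk E u (γ c) := by
  subst he
  have h := ConcreteCategory.congr_hom (germ_stalkMap_chartHom hW γ u hx) c
  simp only [TopCat.Presheaf.stalkCongr_inv, TopCat.Presheaf.stalkSpecializes_refl]
  exact h

theorem stalk_congr_mem {x x' : X} (h : Inseparable x x') {a : X.presheaf.stalk x'}
    (ha : a ∈ maximalIdeal (X.presheaf.stalk x')) :
    (X.presheaf.stalkCongr h).inv.hom a ∈ maximalIdeal (X.presheaf.stalk x) := by
  rw [mem_maximalIdeal, mem_nonunits_iff] at ha ⊢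
  intro hu
  have h1 := hu.map (X.presheaf.stalkCongr h).hom.hom
  rw [← CommRingCat.comp_apply, Iso.inv_hom_id] at h1
  exact ha h1

theorem stalkMap_mem {Y : Scheme.{u}} (f : Y ⟶ X) (y : Y) {a : X.presheaf.stalk (f y)}
    (ha : a ∈ maximalIdeal (X.presheaf.stalk (f y))) :
    (f.stalkMap y).hom a ∈ maximalIdeal (Y.presheaf.stalk y) := by
  rw [mem_maximalIdeal, mem_nonunits_iff] at ha ⊢
  exact fun hu => ha (isUnit_of_map_unit (f.stalkMap y).hom a hu)

theorem etale_chartHom (hW : IsAffineOpen W) {E : CommRingCat.{u}} (γ : Γ(X, W) ⟶ E)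
    (h : γ.hom.Etale) : Etale (chartHom hW γ) := by
  have : Etale (Spec.map γ) := (HasRingHomProperty.Spec_iff (P := @Etale)).2 h
  unfold chartHom
  infer_instance

theorem bijective_residueFieldMap {Y : Scheme.{u}} (e : Y ⟶ X) (y : Y)
    (h : ∀ z : Y.presheaf.stalk y, ∃ a : X.presheaf.stalk (e y),
      z - (e.stalkMap y).hom a ∈ maximalIdeal (Y.presheaf.stalk y)) :
    Function.Bijective (e.residueFieldMap y) := by
  refine ⟨(e.residueFieldMap y).hom.injective, fun z => ?_⟩
  obtain ⟨z, rfl⟩ := Y.residue_surjective y z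
  obtain ⟨a, ha⟩ := h z
  refine ⟨X.residue (e y) a, ?_⟩
  rw [← CommRingCat.comp_apply, Scheme.residue_residueFieldMap, CommRingCat.comp_apply]
  exact (Ideal.Quotient.eq.2 ha).symm

theorem appLE_germ {S : Scheme.{u}} (p : X ⟶ S) {V : S.Opens} (hVW : W ≤ p ⁻¹ᵁ V) {x : X} (hx : x ∈ W)
    (r : Γ(S, V)) :
    X.presheaf.germ W x hx (p.appLE V W hVW r) =
      (p.stalkMap x).hom (S.presheaf.germ V (p x) (hVW hx) r) := by
  rw [Scheme.Hom.germ_stalkMap_apply, Scheme.Hom.appLE, CommRingCat.comp_apply,
    TopCat.Presheaf.germ_res_apply]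

end Groth.Agent.Misc12.EtNbhdApprox
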