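import Groth.Agent.Misc12.EtNbhdApprox.Point
import Groth.Agent.ArtfunDeform.Cotangent
import Groth.Agent.S9562
import Groth.Agent.HensPair.StdLocal

/-!
An approximation of an isomorphism of completions is étale at the point.
-/

set_option autoImplicit false

universe u

open IsLocalRing

namespace Groth.Agent.Misc12.EtNbhdApprox

variable {K M : Type u} [CommRing K] [CommRing M] [IsLocalRing K] [IsLocalRing M]

theorem exists_completion_bijective [IsNoetherianRing K] [IsNoetherianRing M]
    (f : ∀ k, K ⧸ maximalIdeal K ^ k →+* M ⧸ maximalIdeal M ^ k) (hf : ∀ k, Function.Bijective (f k))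
    (ε : K →+* M) (hε : ∀ k a, f k (Ideal.Quotient.mk _ a) = Ideal.Quotient.mk _ (ε a)) :
    ∃ Φ : Cpl K →+* Cpl M, Function.Bijective Φ ∧
      Φ.comp (algebraMap K (Cpl K)) = (algebraMap M (Cpl M)).comp ε := by
  have hev : ∀ {R : Type u} [CommRing R] (I : Ideal R) {m n : ℕ} (h : m ≤ n) (x : AdicCompletion I R),
      Ideal.Quotient.factorPow I h (AdicCompletion.evalₐ I n x) = AdicCompletion.evalₐ I m x := by
    intro R _ I m n h x
    obtain ⟨y, rfl⟩ := AdicCompletion.mk_surjective I R x
    simp only [AdicCompletion.evalₐ_mk, Ideal.Quotient.factor_mk]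
    exact AdicCompletion.Ideal.mk_eq_mk _ h y
  let e := fun k => RingEquiv.ofBijective (f k) (hf k)
  have hcompat : ∀ {m n : ℕ} (h : m ≤ n) (q : K ⧸ maximalIdeal K ^ n),
      Ideal.Quotient.factorPow _ h (e n q) = e m (Ideal.Quotient.factorPow _ h q) := by
    intro m n h q
    obtain ⟨a, rfl⟩ := Ideal.Quotient.mk_surjective q
    show Ideal.Quotient.factorPow _ h (f n _) = f m (Ideal.Quotient.factorPow _ h _)
    rw [hε, Ideal.Quotient.factor_mk, Ideal.Quotient.factor_mk, hε]
  let F := fun n => (e n).toRingHom.comp (AdicCompletion.evalₐ (maximalIdeal K) n).toRingHom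
  let G := fun n => (e n).symm.toRingHom.comp (AdicCompletion.evalₐ (maximalIdeal M) n).toRingHom
  have hF : ∀ {m n : ℕ} (h : m ≤ n), (Ideal.Quotient.factorPow _ h).comp (F n) = F m :=
    fun {m n} h => RingHom.ext fun x => (hcompat h _).trans (congrArg (e m) (hev _ h x))
  have hG : ∀ {m n : ℕ} (h : m ≤ n), (Ideal.Quotient.factorPow _ h).comp (G n) = G m :=
    fun {m n} h => RingHom.ext fun x => (e m).injective <| by
      show e m (Ideal.Quotient.factorPow _ h ((e n).symm (AdicCompletion.evalₐ _ n x))) =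
        e m ((e m).symm (AdicCompletion.evalₐ _ m x))
      rw [← hcompat h, (e n).apply_symm_apply, (e m).apply_symm_apply, hev _ h x]
  let Φ := AdicCompletion.liftRingHom (maximalIdeal M) F hF
  let Ψ := AdicCompletion.liftRingHom (maximalIdeal K) G hG
  have h1 : ∀ x, Ψ (Φ x) = x := fun x => AdicCompletion.ext_evalₐ fun n =>
    (AdicCompletion.evalₐ_liftRingHom _ G hG n _).trans <|
      (congrArg (e n).symm (AdicCompletion.evalₐ_liftRingHom _ F hF n _)).trans ((e n).symm_apply_apply _)
  have h2 : ∀ x, Φ (Ψ x) = x := fun x => AdicCompletion.ext_evalₐ fun n =>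
    (AdicCompletion.evalₐ_liftRingHom _ F hF n _).trans <|
      (congrArg (e n) (AdicCompletion.evalₐ_liftRingHom _ G hG n _)).trans ((e n).apply_symm_apply _)
  refine ⟨Φ, ⟨Function.LeftInverse.injective h1, Function.RightInverse.surjective h2⟩,
    RingHom.ext fun a => AdicCompletion.ext_evalₐ fun n => ?_⟩
  refine (AdicCompletion.evalₐ_liftRingHom _ F hF n _).trans ?_
  show f n (AdicCompletion.evalₐ _ n (algebraMap K (Cpl K) a)) =
    AdicCompletion.evalₐ _ n (algebraMap M (Cpl M) (ε a))
  rw [ev_algebraMap, ev_algebraMap, hε]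

section

variable {C E B : Type u} [CommRing C] [CommRing E] [CommRing B] [Algebra C E] [Algebra B E]
  [IsNoetherianRing B] [IsNoetherianRing E] [Algebra.FiniteType B E] [Algebra.FormallyUnramified C E]
  (P : Ideal C) [P.IsPrime] (L : Type u) [CommRing L] [Algebra C L] [IsLocalRing L]
  [IsNoetherianRing L] [IsLocalization.AtPrime L P] (P' : Ideal E) [P'.IsPrime]
  (ψ : E →ₐ[C] Cpl L)

/-- An approximation to order at least two of an isomorphism of completions is étale at the point. -/
theorem isEtaleAt_of_approx (Q : Ideal B) [Q.IsPrime] (K : Type u) [CommRing K] [Algebra B K]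
    [IsLocalRing K] [IsLocalization.AtPrime K Q] (h : IsPoint P L P' ψ) (hP' : P'.comap (algebraMap C E) = P)
    [IsNoetherianRing K] (φ : Cpl K ≃+* Cpl L) {N : ℕ} (hN : 2 ≤ N)
    (hφ : ∀ b : B, AdicCompletion.evalₐ (maximalIdeal L) N (φ (algebraMap K (Cpl K) (algebraMap B K b))) =
      AdicCompletion.evalₐ (maximalIdeal L) N (ψ (algebraMap B E b))) :
    Algebra.IsEtaleAt B P' := by
  let M := Localization.AtPrime P'
  have : IsNoetherianRing M := IsLocalization.isNoetherianRing P'.primeCompl M inferInstance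
  have hM : ∀ x ∈ P', algebraMap E M x ∈ maximalIdeal M := fun x hx =>
    (IsLocalization.AtPrime.to_map_mem_maximal_iff M P' x).2 hx
  -- the map from `L`
  have hu : ∀ c : P.primeCompl, IsUnit ((algebraMap E M).comp (algebraMap C E) c) := fun c =>
    IsLocalization.map_units M (⟨algebraMap C E c, fun hc => c.2 (hP' ▸ hc)⟩ : P'.primeCompl)
  let εX : L →+* M := IsLocalization.lift hu
  have hεC : ∀ c, εX (algebraMap C L c) = algebraMap E M (algebraMap C E c) :=
    IsLocalization.lift_eq hu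
  have hεm : ∀ a ∈ maximalIdeal L, εX a ∈ maximalIdeal M := by
    intro a ha
    obtain ⟨⟨c, s⟩, hcs⟩ := IsLocalization.surj P.primeCompl a
    refine (Ideal.mul_unit_mem_iff_mem _ (hu s)).1 ?_
    rw [RingHom.comp_apply, ← hεC, ← map_mul, hcs, hεC]
    refine hM _ (show c ∈ P'.comap (algebraMap C E) from hP'.symm ▸ ?_)
    exact (IsLocalization.AtPrime.to_map_mem_maximal_iff L P c).1 (hcs ▸ Ideal.mul_mem_right _ _ ha)
  -- the map to the completion of `L`
  have hψu : ∀ t : P'.primeCompl, IsUnit (ψ t) := by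
    intro t
    obtain ⟨r, s, hs, hr⟩ := h.surj t
    have hrP : r ∉ P := fun hrP => by
      rw [← hP'] at hrP
      have h1 := Ideal.add_mem _ hr hrP
      rw [sub_add_cancel] at h1
      exact ((‹P'.IsPrime›.mem_or_mem h1).elim (fun h2 => hs (hP' ▸ h2)) t.2)
    have h1 := h.mem _ hr
    rw [map_sub, map_mul, ψ.commutes, ψ.commutes] at h1
    have h2 : IsUnit (algebraMap C (Cpl L) r) := by
      rw [IsScalarTower.algebraMap_apply C L (Cpl L)]
      exact (IsLocalization.map_units L (⟨r, hrP⟩ : P.primeCompl)).map _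
    by_contra h3
    have h4 := Ideal.sub_mem _ (Ideal.mul_mem_left _ (algebraMap C (Cpl L) s)
      ((mem_maximalIdeal _).2 h3)) h1
    rw [sub_sub_cancel] at h4
    exact (mem_maximalIdeal _).1 h4 h2
  let ψM : M →+* Cpl L := IsLocalization.lift (g := ψ.toRingHom) hψu
  have hψM : ∀ x, ψM (algebraMap E M x) = ψ x := IsLocalization.lift_eq (g := ψ.toRingHom) hψu
  have hψε : ψM.comp εX = algebraMap L (Cpl L) := IsLocalization.ringHom_ext P.primeCompl
    (RingHom.ext fun c => by
      simp only [RingHom.comp_apply, hεC, hψM, ψ.commutes]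
      rfl)
  have hψMm : ∀ z ∈ maximalIdeal M, ψM z ∈ maximalIdeal (Cpl L) := by
    intro z hz
    obtain ⟨⟨x, t⟩, ht⟩ := IsLocalization.surj P'.primeCompl z
    have hx : x ∈ P' :=
      (IsLocalization.AtPrime.to_map_mem_maximal_iff M P' x).1 (ht ▸ Ideal.mul_mem_right _ _ hz)
    refine (Ideal.mul_unit_mem_iff_mem _ (hψu t)).1 ?_
    rw [← hψM, ← map_mul, ht, hψM]
    exact h.mem x hx
  let θ := fun k => trunc ψM hψMm k
  have hθsurj : ∀ k, Function.Surjective (θ k) := by
    intro k y
    obtain ⟨l, rfl⟩ := Ideal.Quotient.mk_surjective y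
    refine ⟨Ideal.Quotient.mk _ (εX l), ?_⟩
    rw [trunc_mk, ← RingHom.comp_apply, hψε, ev_algebraMap]
  have hθinj : ∀ k, Function.Injective (θ k) := by
    intro k
    rw [injective_iff_map_eq_zero]
    intro q hq
    obtain ⟨z, rfl⟩ := Ideal.Quotient.mk_surjective q
    obtain ⟨l, hl⟩ := h.exists_sub_mem_of_isLocalization εX hM hεm hεC k z
    rw [← Ideal.Quotient.eq] at hl
    rw [hl, trunc_mk, ← RingHom.comp_apply, hψε, ev_algebraMap, Ideal.Quotient.eq_zero_iff_mem] at hq
    rw [hl, Ideal.Quotient.eq_zero_iff_mem]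
    exact map_pow_le εX hεm k hq
  -- the map from `K`
  have hφ1 : ∀ {k : ℕ} (_ : k ≤ N) (b : B),
      AdicCompletion.evalₐ (maximalIdeal L) k (φ (algebraMap K (Cpl K) (algebraMap B K b))) =
        AdicCompletion.evalₐ (maximalIdeal L) k (ψ (algebraMap B E b)) := by
    intro k hk b
    have h1 := hφ b
    rw [← sub_eq_zero, ← map_sub, ev_eq_zero_iff] at h1 ⊢
    exact Ideal.pow_le_pow_right hk h1
  have hv : ∀ t : Q.primeCompl, IsUnit ((algebraMap E M).comp (algebraMap B E) t) := by
    intro t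
    refine IsLocalization.map_units M (⟨algebraMap B E t, fun ht => ?_⟩ : P'.primeCompl)
    have h1 := hφ1 (show 1 ≤ N by omega) (t : B)
    rw [← sub_eq_zero, ← map_sub, ev_eq_zero_iff, pow_one] at h1
    have h2 := Ideal.add_mem _ h1 (h.mem _ ht)
    rw [sub_add_cancel] at h2
    exact (mem_maximalIdeal _).1 h2 ((((IsLocalization.map_units K t).map _).map φ.toRingHom))
  let εY : K →+* M := IsLocalization.lift hv
  have hεB : ∀ b, εY (algebraMap B K b) = algebraMap E M (algebraMap B E b) :=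
    IsLocalization.lift_eq hv
  let φK : K →+* Cpl L := φ.toRingHom.comp (algebraMap K (Cpl K))
  have hφKm : ∀ a ∈ maximalIdeal K, φK a ∈ maximalIdeal (Cpl L) := fun a ha =>
    ringEquiv_mem_maximalIdeal φ (algebraMap_mem ha)
  have hεYm : ∀ a ∈ maximalIdeal K, εY a ∈ maximalIdeal M := by
    intro a ha
    obtain ⟨⟨b, t⟩, hbt⟩ := IsLocalization.surj Q.primeCompl a
    refine (Ideal.mul_unit_mem_iff_mem _ (hv t)).1 ?_
    rw [RingHom.comp_apply, ← hεB, ← map_mul, hbt, hεB]
    refine hM _ ?_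
    by_contra hb
    have h1 := hφ1 (show 1 ≤ N by omega) b
    rw [← sub_eq_zero, ← map_sub, ev_eq_zero_iff, pow_one] at h1
    have h2 := Ideal.sub_mem _ (hφKm _ (hbt ▸ Ideal.mul_mem_right _ _ ha : algebraMap B K b ∈ maximalIdeal K)) h1
    simp only [φK, RingHom.comp_apply, RingEquiv.toRingHom_eq_coe, RingEquiv.coe_toRingHom,
      sub_sub_cancel] at h2
    exact (mem_maximalIdeal _).1 h2 (hψu ⟨_, hb⟩)
  let f := fun k => Ideal.quotientMap (maximalIdeal M ^ k) εY
    (fun a ha => map_pow_le εY hεYm k ha : maximalIdeal K ^ k ≤ (maximalIdeal M ^ k).comap εY)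
  have hf : ∀ k a, f k (Ideal.Quotient.mk _ a) = Ideal.Quotient.mk _ (εY a) := fun k a =>
    Ideal.quotientMap_mk
  have h2N : (θ 2).comp (f 2) = trunc φK hφKm 2 := by
    refine Ideal.Quotient.ringHom_ext (IsLocalization.ringHom_ext Q.primeCompl (RingHom.ext fun b => ?_))
    show θ 2 (f 2 (Ideal.Quotient.mk _ (algebraMap B K b))) = AdicCompletion.evalₐ _ 2 (φK _)
    rw [hf, hεB, trunc_mk, hψM]
    exact (hφ1 hN b).symm
  have hφbij : ∀ k, Function.Bijective (trunc φK hφKm k) := trunc_ringEquiv_bijective φ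
  have hres : ∀ z : M, ∃ a, z - εY a ∈ maximalIdeal M ^ 2 := by
    intro z
    obtain ⟨q, hq⟩ := (hφbij 2).2 (θ 2 (Ideal.Quotient.mk _ z))
    obtain ⟨a, rfl⟩ := Ideal.Quotient.mk_surjective q
    rw [← h2N, RingHom.comp_apply, hf] at hq
    exact ⟨a, Ideal.Quotient.eq.1 (hθinj 2 hq).symm⟩
  have hsurj : ∀ k, Function.Surjective (f k) := by
    intro k q
    obtain ⟨z, rfl⟩ := Ideal.Quotient.mk_surjective q
    obtain ⟨a, ha⟩ := exists_sub_mem_pow εY hεYm
      (fun z => (hres z).imp fun a ha => Ideal.pow_le_self two_ne_zero ha)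
      (fun z hz => by
        obtain ⟨a, ha⟩ := hres z
        refine ⟨a, ?_, ha⟩
        by_contra ha0
        have h1 := Ideal.sub_mem _ hz (Ideal.pow_le_self two_ne_zero ha)
        rw [sub_sub_cancel] at h1
        exact (mem_maximalIdeal _).1 h1 ((notMem_maximalIdeal.1 ha0).map εY)) k z
    exact ⟨Ideal.Quotient.mk _ a, (hf k a).trans (Ideal.Quotient.eq.2 ha).symm⟩
  have hbij : ∀ k, Function.Bijective (f k) := by
    intro k
    let e := RingEquiv.ofBijective _ (hφbij k)
    have hg : Function.Bijective ((e.symm.toRingHom.comp (θ k)).comp (f k)) :=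
      Groth.ArtfunDeform.bijective_of_surjective_endo _
        ((e.symm.surjective.comp (hθsurj k)).comp (hsurj k))
    exact ⟨fun a b hab => hg.1 (congrArg (e.symm.toRingHom.comp (θ k)) hab), hsurj k⟩
  obtain ⟨Φ, hΦ, hΦε⟩ := exists_completion_bijective f hbij εY hf
  let : Algebra K M := εY.toAlgebra
  have : IsScalarTower B K M := IsScalarTower.of_algebraMap_eq fun b =>
    (IsScalarTower.algebraMap_apply B E M b).trans (hεB b).symm
  have : Algebra.EssFiniteType E M := Algebra.EssFiniteType.of_isLocalization M P'.primeCompl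
  have : Algebra.EssFiniteType B M := Algebra.EssFiniteType.comp B E M
  have : Algebra.EssFiniteType K M := Algebra.EssFiniteType.of_comp B K M
  have : IsLocalHom (algebraMap K M) := ⟨fun a ha => by
    by_contra h0
    exact (mem_maximalIdeal _).1 (hεYm a ((mem_maximalIdeal a).2 h0)) ha⟩
  obtain ⟨hflat, hmap, _, hsep⟩ :=
    (Groth.Agent.S9562.result K M Φ hΦε).1.2 (RingHom.Etale.of_bijective hΦ)
  obtain ⟨S, 𝔮, _, ⟨e⟩⟩ := Groth.HensPair.exists_standardEtale_algEquiv K M hmap
  have : Algebra.FormallyEtale K M := .of_equiv e.symm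
  have : Algebra.FormallyEtale B K := Algebra.FormallyEtale.of_isLocalization Q.primeCompl
  exact Algebra.FormallyEtale.comp B K M

end

end Groth.Agent.Misc12.EtNbhdApprox
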