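import Groth.Agent.Misc12.EtNbhdApprox.Approx
import Groth.Agent.Misc12.EtNbhdApprox.EtaleAt

/-!
Common étale neighbourhoods of points with isomorphic completed local rings.
-/

set_option autoImplicit false

universe u

open AlgebraicGeometry CategoryTheory IsLocalRing

namespace Groth.Agent.Misc12.EtNbhdApprox

theorem residueFieldMap_comp_bijective {U' U X : Scheme.{u}} (j : U' ⟶ U) (e : U ⟶ X) (u' : U')
    [IsOpenImmersion j] {u : U} (hju : j u' = u) (h : Function.Bijective (e.residueFieldMap u)) :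
    Function.Bijective ((j ≫ e).residueFieldMap u') := by
  subst hju
  rw [Scheme.residueFieldMap_comp]
  exact (((ConcreteCategory.isIso_iff_bijective _).1 inferInstance : Function.Bijective (j.residueFieldMap u'))).comp h

theorem congr_comp {U' U X Y : Scheme.{u}} (j : U' ⟶ U) (e : U ⟶ X) (f : U ⟶ Y) (u' : U') {u : U}
    {x : X} {y : Y} (hju : j u' = u) (heu : e u = x) (hfu : f u = y) (heu' : (j ≫ e) u' = x)
    (hfu' : (j ≫ f) u' = y) (n : ℕ) (b : Y.presheaf.stalk y) (c : X.presheaf.stalk x)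
    (h : Ideal.Quotient.mk (maximalIdeal (U.presheaf.stalk u) ^ n)
        ((f.stalkMap u).hom ((Y.presheaf.stalkCongr (Inseparable.of_eq hfu)).inv.hom b)) =
      Ideal.Quotient.mk (maximalIdeal (U.presheaf.stalk u) ^ n)
        ((e.stalkMap u).hom ((X.presheaf.stalkCongr (Inseparable.of_eq heu)).inv.hom c))) :
    Ideal.Quotient.mk (maximalIdeal (U'.presheaf.stalk u') ^ n)
        (((j ≫ f).stalkMap u').hom ((Y.presheaf.stalkCongr (Inseparable.of_eq hfu')).inv.hom b)) =
      Ideal.Quotient.mk (maximalIdeal (U'.presheaf.stalk u') ^ n)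
        (((j ≫ e).stalkMap u').hom ((X.presheaf.stalkCongr (Inseparable.of_eq heu')).inv.hom c)) := by
  subst hju heu hfu
  rw [Ideal.Quotient.eq] at h ⊢
  have h1 := map_pow_le (j.stalkMap u').hom (fun a ha => stalkMap_mem j u' ha) n h
  rw [map_sub] at h1
  simp only [Scheme.Hom.stalkMap_comp]
  exact h1

variable {X Y S : Scheme.{u}} [IsLocallyNoetherian X] {p : X ⟶ S} {q : Y ⟶ S} {x : X} {y : Y}
  [IsNoetherianRing (Y.presheaf.stalk y)]
  {φ : Cpl (Y.presheaf.stalk y) ≃+* Cpl (X.presheaf.stalk x)} {n : ℕ}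

theorem ev_le (L : Type u) [CommRing L] [IsLocalRing L] [IsNoetherianRing L] {k m : ℕ} (h : k ≤ m)
    {a b : Cpl L} (hab : AdicCompletion.evalₐ (maximalIdeal L) m a = AdicCompletion.evalₐ (maximalIdeal L) m b) :
    AdicCompletion.evalₐ (maximalIdeal L) k a = AdicCompletion.evalₐ (maximalIdeal L) k b := by
  rw [← sub_eq_zero, ← map_sub, ev_eq_zero_iff] at hab ⊢
  exact Ideal.pow_le_pow_right h hab

theorem ChartData.congr_of_equiv
    (d : ChartData p q x y (φ.toRingHom.comp (algebraMap (Y.presheaf.stalk y) (Cpl (Y.presheaf.stalk y)))) n)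
    {k : ℕ} (hk : k ≤ n) {b : Cpl (Y.presheaf.stalk y)} {cY : Y.presheaf.stalk y}
    {cX : X.presheaf.stalk x}
    (hY : AdicCompletion.evalₐ (maximalIdeal _) k b = Ideal.Quotient.mk _ cY)
    (hX : AdicCompletion.evalₐ (maximalIdeal _) k (φ b) = Ideal.Quotient.mk _ cX) :
    Ideal.Quotient.mk (maximalIdeal ((Spec d.E).presheaf.stalk d.u) ^ k)
        (((chartHom d.hY₀ d.δ).stalkMap d.u).hom
          ((Y.presheaf.stalkCongr (Inseparable.of_eq d.hf)).inv.hom cY)) =
      Ideal.Quotient.mk (maximalIdeal ((Spec d.E).presheaf.stalk d.u) ^ k) (d.ε cX) := by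
  obtain ⟨c, hc⟩ := exists_ev_eq _ n (φ (algebraMap _ _ cY))
  have h1 := d.congr (fun b hb => ringEquiv_mem_maximalIdeal φ (algebraMap_mem hb)) cY c hc
  rw [Ideal.Quotient.eq] at h1 ⊢
  have h2 : AdicCompletion.evalₐ (maximalIdeal _) k (φ b) = Ideal.Quotient.mk _ c := by
    rw [← ev_algebraMap _ k]
    refine (ev_ringEquiv φ k (hY.trans (ev_algebraMap _ k cY).symm)).trans (ev_le _ hk ?_)
    rw [hc, ev_algebraMap]
  rw [hX, Ideal.Quotient.eq] at h2
  have h3 := Ideal.pow_le_pow_right hk h1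
  have h4 := map_pow_le d.ε (fun a ha => d.ε_mem ha) k h2
  rw [map_sub] at h4
  have h5 := Ideal.sub_mem _ h3 h4
  rwa [sub_sub_sub_cancel_right] at h5

/-- A common étale neighbourhood. -/
theorem exists_common {S : Scheme.{u}} [IsLocallyNoetherian S] {p : X ⟶ S} {q : Y ⟶ S}
    [LocallyOfFiniteType p] [LocallyOfFiniteType q]
    (hxy : p x = q y) (hG : CAlg.IsGRing (S.presheaf.stalk (p x)))
    (hφ : φ.toRingHom.comp ((algebraMap (Y.presheaf.stalk y) (Cpl (Y.presheaf.stalk y))).comp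
        ((q.stalkMap y).hom.comp (S.presheaf.stalkCongr (Inseparable.of_eq hxy)).hom.hom)) =
      (algebraMap (X.presheaf.stalk x) (Cpl (X.presheaf.stalk x))).comp (p.stalkMap x).hom)
    (N : ℕ) :
    ∃ (U : Scheme.{u}) (u : U) (e : U ⟶ X) (heu : e u = x) (f : U ⟶ Y) (hfu : f u = y),
      Etale e ∧ Function.Bijective (e.residueFieldMap u) ∧ Etale f ∧ Function.Bijective (f.residueFieldMap u) ∧
      f ≫ q = e ≫ p ∧
      ∀ (b : Cpl (Y.presheaf.stalk y)) (cY : Y.presheaf.stalk y) (cX : X.presheaf.stalk x),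
        AdicCompletion.evalₐ (maximalIdeal _) N b = Ideal.Quotient.mk _ cY →
        AdicCompletion.evalₐ (maximalIdeal _) N (φ b) = Ideal.Quotient.mk _ cX →
        Ideal.Quotient.mk (maximalIdeal (U.presheaf.stalk u) ^ N)
            ((f.stalkMap u).hom ((Y.presheaf.stalkCongr (Inseparable.of_eq hfu)).inv.hom cY)) =
          Ideal.Quotient.mk (maximalIdeal (U.presheaf.stalk u) ^ N)
            ((e.stalkMap u).hom ((X.presheaf.stalkCongr (Inseparable.of_eq heu)).inv.hom cX)) := by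
  obtain ⟨d⟩ := exists_chartData p q x y hxy hG
    (φ.toRingHom.comp (algebraMap (Y.presheaf.stalk y) (Cpl (Y.presheaf.stalk y))))
    ((RingHom.comp_assoc _ _ _).trans hφ)
    (fun b hb => ringEquiv_mem_maximalIdeal φ (algebraMap_mem hb)) (max N 2)
    (le_trans (by omega) (le_max_right N 2))
  let : Algebra Γ(X, d.W) (X.presheaf.stalk x) := X.presheaf.algebra_section_stalk ⟨x, d.hxW⟩
  have : IsLocalization.AtPrime (X.presheaf.stalk x) (d.hW.primeIdealOf ⟨x, d.hxW⟩).asIdeal :=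
    d.hW.isLocalization_stalk ⟨x, d.hxW⟩
  let : Algebra Γ(Y, d.Y₀) (Y.presheaf.stalk y) := Y.presheaf.algebra_section_stalk ⟨y, d.hyY⟩
  have : IsLocalization.AtPrime (Y.presheaf.stalk y) (d.hY₀.primeIdealOf ⟨y, d.hyY⟩).asIdeal :=
    d.hY₀.isLocalization_stalk ⟨y, d.hyY⟩
  let : Algebra Γ(X, d.W) d.E := d.γ.hom.toAlgebra
  have : Algebra.Etale Γ(X, d.W) d.E := RingHom.etale_algebraMap.1 d.etale
  let : Algebra Γ(Y, d.Y₀) d.E := d.δ.hom.toAlgebra
  have : Algebra.FiniteType Γ(Y, d.Y₀) d.E := d.finiteType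
  have := d.noetherian
  have : IsNoetherianRing d.E := Algebra.FiniteType.isNoetherianRing Γ(Y, d.Y₀) _
  have : Algebra.FinitePresentation Γ(Y, d.Y₀) d.E := Algebra.FinitePresentation.of_finiteType.1 ‹_›
  let ψ' : d.E →ₐ[Γ(X, d.W)] Cpl (X.presheaf.stalk x) := { d.ψ with commutes' := d.ψ_γ }
  have hEt : Algebra.IsEtaleAt Γ(Y, d.Y₀) d.u.asIdeal :=
    isEtaleAt_of_approx (d.hW.primeIdealOf ⟨x, d.hxW⟩).asIdeal (X.presheaf.stalk x) d.u.asIdeal ψ'
      (d.hY₀.primeIdealOf ⟨y, d.hyY⟩).asIdeal (Y.presheaf.stalk y) ⟨d.surj, d.mem⟩ d.comap_γ φ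
      (le_max_right N 2) d.approx
  obtain ⟨h, hh, hE'⟩ := Algebra.exists_etale_of_isEtaleAt (R := Γ(Y, d.Y₀)) d.u.asIdeal
  let E' := Localization.Away h
  let j : Spec (.of E') ⟶ Spec d.E := Spec.map (CommRingCat.ofHom (algebraMap d.E E'))
  have hdisj : Disjoint (Submonoid.powers h : Set d.E) (d.u.asIdeal : Set d.E) := by
    rw [Set.disjoint_left]
    rintro _ ⟨i, rfl⟩ hi
    exact hh (d.u.isPrime.mem_of_pow_mem i hi)
  let u' : Spec (CommRingCat.of E') :=
    ⟨d.u.asIdeal.map (algebraMap d.E E'),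
      IsLocalization.isPrime_of_isPrime_disjoint (Submonoid.powers h) E' d.u.asIdeal d.u.isPrime hdisj⟩
  have hju : j u' = d.u := PrimeSpectrum.ext
    (IsLocalization.comap_map_of_isPrime_disjoint (Submonoid.powers h) E' d.u.isPrime hdisj)
  have : IsOpenImmersion j :=
    IsOpenImmersion.of_isLocalization h
  have heu : (j ≫ chartHom d.hW d.γ) u' = x := by rw [Scheme.Hom.comp_apply, hju, d.he]
  have hfu : (j ≫ chartHom d.hY₀ d.δ) u' = y := by rw [Scheme.Hom.comp_apply, hju, d.hf]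
  have : Etale (chartHom d.hW d.γ) := etale_chartHom d.hW d.γ d.etale
  have hres : Function.Bijective ((chartHom d.hY₀ d.δ).residueFieldMap d.u) := by
    refine bijective_residueFieldMap _ _ fun z => ?_
    obtain ⟨c, hc⟩ := d.exists_sub_mem 1 z
    rw [pow_one] at hc
    obtain ⟨b, hb⟩ := exists_ev_eq _ 1 (φ.symm (algebraMap _ _ c))
    have h1 := d.congr_of_equiv (k := 1) (le_trans (by omega) (le_max_right N 2)) hb
      (by rw [φ.apply_symm_apply, ev_algebraMap])
    rw [Ideal.Quotient.eq, pow_one] at h1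
    refine ⟨(Y.presheaf.stalkCongr (Inseparable.of_eq d.hf)).inv.hom b, ?_⟩
    have h2 := Ideal.sub_mem _ hc h1
    rwa [sub_sub_sub_cancel_right] at h2
  refine ⟨_, u', j ≫ chartHom d.hW d.γ, heu, j ≫ chartHom d.hY₀ d.δ, hfu, inferInstance,
    residueFieldMap_comp_bijective j _ u' hju d.residue_bijective, ?_,
    residueFieldMap_comp_bijective j _ u' hju hres, ?_, fun b cY cX hY hX => ?_⟩
  · rw [show j ≫ chartHom d.hY₀ d.δ = chartHom d.hY₀ (d.δ ≫ CommRingCat.ofHom (algebraMap d.E E')) by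
      rw [chartHom, chartHom, Spec.map_comp, Category.assoc]]
    refine etale_chartHom _ _ ?_
    have h3 : (d.δ ≫ CommRingCat.ofHom (algebraMap d.E E')).hom = algebraMap Γ(Y, d.Y₀) E' :=
      (IsScalarTower.algebraMap_eq Γ(Y, d.Y₀) d.E E').symm
    rw [h3]
    exact RingHom.etale_algebraMap.2 hE'
  · rw [Category.assoc, d.comm, Category.assoc]
  · exact congr_comp j _ _ u' hju d.he d.hf heu hfu N cY cX
      (d.congr_of_equiv (le_max_left N 2) hY hX)

end Groth.Agent.Misc12.EtNbhdApprox
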