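import Groth.Agent.Misc12.EtNbhdApprox.EtaleAt

/-!
Maps between completions of local rings.
-/

set_option autoImplicit false

universe u

open IsLocalRing
open scoped TensorProduct

namespace Groth.Agent.Misc12.EtNbhdApprox

variable {K L : Type u} [CommRing K] [IsLocalRing K] [IsNoetherianRing K] [CommRing L] [IsLocalRing L]
  [IsNoetherianRing L]

theorem ringHom_ext_cpl (g₁ g₂ : Cpl K →+* Cpl L)
    (h₁ : ∀ a ∈ maximalIdeal (Cpl K), g₁ a ∈ maximalIdeal (Cpl L))
    (h₂ : ∀ a ∈ maximalIdeal (Cpl K), g₂ a ∈ maximalIdeal (Cpl L))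
    (h : g₁.comp (algebraMap K (Cpl K)) = g₂.comp (algebraMap K (Cpl K))) : g₁ = g₂ := by
  refine RingHom.ext fun x => AdicCompletion.ext_evalₐ fun n => ?_
  obtain ⟨l, hl⟩ := exists_ev_eq K n x
  rw [← ev_algebraMap K n l, ← sub_eq_zero, ← map_sub, ev_eq_zero_iff] at hl
  have e₁ := map_pow_le g₁ h₁ n hl
  have e₂ := map_pow_le g₂ h₂ n hl
  rw [map_sub, ← RingHom.comp_apply g₁] at e₁
  rw [map_sub, ← RingHom.comp_apply g₂, ← h] at e₂
  rw [← sub_eq_zero, ← map_sub, ev_eq_zero_iff]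
  simpa using Ideal.sub_mem _ e₁ e₂

theorem exists_cplMap (ε : K →+* L) (hε : ∀ a ∈ maximalIdeal K, ε a ∈ maximalIdeal L) :
    ∃ Φ : Cpl K →+* Cpl L, (∀ a ∈ maximalIdeal (Cpl K), Φ a ∈ maximalIdeal (Cpl L)) ∧
      Φ.comp (algebraMap K (Cpl K)) = (algebraMap L (Cpl L)).comp ε := by
  have hev : ∀ {R : Type u} [CommRing R] (I : Ideal R) {m n : ℕ} (h : m ≤ n) (x : AdicCompletion I R),
      Ideal.Quotient.factorPow I h (AdicCompletion.evalₐ I n x) = AdicCompletion.evalₐ I m x := by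
    intro R _ I m n h x
    obtain ⟨y, rfl⟩ := AdicCompletion.mk_surjective I R x
    simp only [AdicCompletion.evalₐ_mk, Ideal.Quotient.factor_mk]
    exact AdicCompletion.Ideal.mk_eq_mk _ h y
  let f := fun n => Ideal.quotientMap (maximalIdeal L ^ n) ε
    (fun a ha => map_pow_le ε hε n ha : maximalIdeal K ^ n ≤ (maximalIdeal L ^ n).comap ε)
  let F := fun n => (f n).comp (AdicCompletion.evalₐ (maximalIdeal K) n).toRingHom
  have hF : ∀ {m n : ℕ} (h : m ≤ n), (Ideal.Quotient.factorPow _ h).comp (F n) = F m := by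
    intro m n h
    refine RingHom.ext fun x => ?_
    show Ideal.Quotient.factorPow _ h (f n (AdicCompletion.evalₐ _ n x)) = f m (AdicCompletion.evalₐ _ m x)
    rw [← hev _ h x]
    obtain ⟨a, ha⟩ := Ideal.Quotient.mk_surjective (AdicCompletion.evalₐ (maximalIdeal K) n x)
    rw [← ha]
    rfl
  let Φ := AdicCompletion.liftRingHom (maximalIdeal L) F hF
  have hΦ : ∀ n x, AdicCompletion.evalₐ (maximalIdeal L) n (Φ x) = F n x := fun n x =>
    AdicCompletion.evalₐ_liftRingHom _ F hF n x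
  refine ⟨Φ, fun a ha => ?_, RingHom.ext fun a => AdicCompletion.ext_evalₐ fun n => ?_⟩
  · rw [← pow_one (maximalIdeal (Cpl L)), ← ev_eq_zero_iff, hΦ]
    rw [← pow_one (maximalIdeal (Cpl K)), ← ev_eq_zero_iff] at ha
    show f 1 (AdicCompletion.evalₐ _ 1 a) = 0
    rw [ha, map_zero]
  · rw [RingHom.comp_apply, RingHom.comp_apply, hΦ, ev_algebraMap]
    show f n (AdicCompletion.evalₐ _ n (algebraMap K (Cpl K) a)) = _
    rw [ev_algebraMap]
    exact Ideal.quotientMap_mk

/-- A dense local map with a retraction to the completion induces an isomorphism of completions. -/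
theorem exists_cpl_equiv (ε : K →+* L) (hε : ∀ a ∈ maximalIdeal K, ε a ∈ maximalIdeal L)
    (ψ : L →+* Cpl K) (hψ : ∀ a ∈ maximalIdeal L, ψ a ∈ maximalIdeal (Cpl K))
    (hψε : ψ.comp ε = algebraMap K (Cpl K))
    (hsurj : ∀ (n : ℕ) (z : L), ∃ a, z - ε a ∈ maximalIdeal L ^ n) :
    ∃ Φ : Cpl K ≃+* Cpl L, ∀ a, Φ (algebraMap K (Cpl K) a) = algebraMap L (Cpl L) (ε a) := by
  let f := fun n => Ideal.quotientMap (maximalIdeal L ^ n) ε
    (fun a ha => map_pow_le ε hε n ha : maximalIdeal K ^ n ≤ (maximalIdeal L ^ n).comap ε)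
  have hf : ∀ n, Function.Bijective (f n) := by
    intro n
    constructor
    · refine Function.LeftInverse.injective (g := trunc ψ hψ n) fun x => ?_
      obtain ⟨a, rfl⟩ := Ideal.Quotient.mk_surjective x
      show trunc ψ hψ n (Ideal.Quotient.mk _ (ε a)) = _
      rw [trunc_mk, ← RingHom.comp_apply, hψε, ev_algebraMap]
    · intro y
      obtain ⟨z, rfl⟩ := Ideal.Quotient.mk_surjective y
      obtain ⟨a, ha⟩ := hsurj n z
      exact ⟨Ideal.Quotient.mk _ a, (Ideal.Quotient.eq.2 ha).symm⟩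
  obtain ⟨Φ, hΦ, hΦε⟩ := exists_completion_bijective f hf ε fun n a => rfl
  exact ⟨RingEquiv.ofBijective Φ hΦ, fun a => RingHom.congr_fun hΦε a⟩

section Point

variable {C E : Type u} [CommRing C] [CommRing E] [Algebra C E]

theorem IsPoint.isUnit {P : Ideal C} [P.IsPrime] {L : Type u} [CommRing L] [Algebra C L] [IsLocalRing L]
    [IsNoetherianRing L] [IsLocalization.AtPrime L P] {P' : Ideal E} [P'.IsPrime] {ψ : E →ₐ[C] Cpl L}
    (h : IsPoint P L P' ψ) (hP' : P'.comap (algebraMap C E) = P) {t : E} (ht : t ∉ P') :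
    IsUnit (ψ t) := by
  obtain ⟨r, s, hs, hr⟩ := h.surj t
  have hrP : r ∉ P := fun hrP => by
    rw [← hP'] at hrP
    have h1 := Ideal.add_mem _ hr hrP
    rw [sub_add_cancel] at h1
    exact ((‹P'.IsPrime›.mem_or_mem h1).elim (fun h2 => hs (hP' ▸ h2)) ht)
  have h1 := h.mem _ hr
  rw [map_sub, map_mul, ψ.commutes, ψ.commutes] at h1
  have h2 : IsUnit (algebraMap C (Cpl L) r) := by
    rw [IsScalarTower.algebraMap_apply C L (Cpl L)]
    exact (IsLocalization.map_units L (⟨r, hrP⟩ : P.primeCompl)).map _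
  by_contra h3
  have h4 := Ideal.sub_mem _ (Ideal.mul_mem_left _ (algebraMap C (Cpl L) s)
    ((mem_maximalIdeal _).2 h3)) h1
  rw [sub_sub_cancel] at h4
  exact (mem_maximalIdeal _).1 h4 h2

end Point

section BaseChange

variable {R LS Λ C : Type u} [CommRing R] [CommRing LS] [IsLocalRing LS] [IsNoetherianRing LS]
  [Algebra R LS] [CommRing C] [Algebra R C]

/-- The completion is unchanged by base change of the base to its completion. -/
theorem exists_baseChange_equiv (Q : Ideal R) [Q.IsPrime] [IsLocalization.AtPrime LS Q]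
    (P : Ideal C) [P.IsPrime] (L : Type u) [CommRing L] [IsLocalRing L] [IsNoetherianRing L]
    [Algebra C L] [IsLocalization.AtPrime L P]
    (ε : LS →+* L) (hε : ∀ a ∈ maximalIdeal LS, ε a ∈ maximalIdeal L)
    (hεR : ∀ r, ε (algebraMap R LS r) = algebraMap C L (algebraMap R C r)) :
    ∃ (P' : Ideal (Cpl LS ⊗[R] C)) (_ : P'.IsPrime)
      (r : Cpl LS ⊗[R] C →+* Cpl L), P' = (maximalIdeal (Cpl L)).comap r ∧
      (∀ c, r ((1 : Cpl LS) ⊗ₜ c) = algebraMap L (Cpl L) (algebraMap C L c)) ∧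
      (∀ (L' : Type u) [CommRing L'] [IsLocalRing L'] [IsNoetherianRing L'] [Algebra (Cpl LS ⊗[R] C) L']
          [IsLocalization.AtPrime L' P'], ∃ Φ : Cpl L ≃+* Cpl L',
        (∀ c, Φ (algebraMap L (Cpl L) (algebraMap C L c)) =
          algebraMap L' (Cpl L') (algebraMap (Cpl LS ⊗[R] C) L' ((1 : Cpl LS) ⊗ₜ c))) ∧
        (∀ a : LS, Φ (algebraMap L (Cpl L) (ε a)) =
          algebraMap L' (Cpl L') (algebraMap (Cpl LS ⊗[R] C) L' (algebraMap LS (Cpl LS) a ⊗ₜ 1)))) := by
  obtain ⟨ρ, hρ, hρε⟩ := exists_cplMap ε hε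
  let : Algebra R (Cpl L) := ((algebraMap L (Cpl L)).comp ((algebraMap C L).comp (algebraMap R C))).toAlgebra
  let r : Cpl LS ⊗[R] C →ₐ[R] Cpl L :=
    Algebra.TensorProduct.lift
      { ρ with
        commutes' := fun x => by
          show ρ (algebraMap R (Cpl LS) x) = _
          rw [IsScalarTower.algebraMap_apply R LS (Cpl LS), ← RingHom.comp_apply, hρε, RingHom.comp_apply, hεR]
          rfl }
      { (algebraMap L (Cpl L)).comp (algebraMap C L) with commutes' := fun x => rfl }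
      fun _ _ => Commute.all _ _
  let P' : Ideal (Cpl LS ⊗[R] C) := (maximalIdeal (Cpl L)).comap r.toRingHom
  have hP' : P'.IsPrime := Ideal.comap_isPrime r.toRingHom _
  have hr1 : ∀ c, r ((1 : Cpl LS) ⊗ₜ c) = algebraMap L (Cpl L) (algebraMap C L c) := fun c => by
    refine (Algebra.TensorProduct.lift_tmul _ _ _ _ _).trans ?_
    rw [map_one, one_mul]
    rfl
  have hr2 : ∀ l : Cpl LS, r (l ⊗ₜ 1) = ρ l := fun l => by
    refine (Algebra.TensorProduct.lift_tmul _ _ _ _ _).trans ?_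
    rw [map_one, mul_one]
    rfl
  refine ⟨P', hP', r.toRingHom, rfl, hr1, ?_⟩
  intro L' _ _ _ _ _
  let C' := Cpl LS ⊗[R] C
  let iC : C →+* C' := (Algebra.TensorProduct.includeRight : C →ₐ[R] C').toRingHom
  have hu : ∀ c : P.primeCompl, IsUnit (((algebraMap C' L').comp iC) c) := fun c => by
    refine IsLocalization.map_units L' (⟨iC c, fun hc => ?_⟩ : P'.primeCompl)
    exact (mem_maximalIdeal _).1 (show r ((1 : Cpl LS) ⊗ₜ (c : C)) ∈ maximalIdeal (Cpl L) from hc)
      (by rw [hr1]; exact (IsLocalization.map_units L c).map _)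
  let ε' : L →+* L' := IsLocalization.lift hu
  have hε'C : ∀ c, ε' (algebraMap C L c) = algebraMap C' L' ((1 : Cpl LS) ⊗ₜ c) := IsLocalization.lift_eq hu
  have hψu : ∀ t : P'.primeCompl, IsUnit (r.toRingHom t) := fun t => by
    by_contra h
    exact t.2 ((mem_maximalIdeal _).2 h)
  let ψ : L' →+* Cpl L := IsLocalization.lift hψu
  have hψC : ∀ x, ψ (algebraMap C' L' x) = r x := IsLocalization.lift_eq hψu
  have hψm : ∀ a ∈ maximalIdeal L', ψ a ∈ maximalIdeal (Cpl L) := by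
    intro a ha
    obtain ⟨⟨x, t⟩, ht⟩ := IsLocalization.surj P'.primeCompl a
    have hx : x ∈ P' :=
      (IsLocalization.AtPrime.to_map_mem_maximal_iff L' P' x).1 (ht ▸ Ideal.mul_mem_right _ _ ha)
    refine (Ideal.mul_unit_mem_iff_mem _ ((IsLocalization.map_units L' t).map ψ)).1 ?_
    rw [← map_mul, ht, hψC]
    exact hx
  have hψε : ψ.comp ε' = algebraMap L (Cpl L) := IsLocalization.ringHom_ext P.primeCompl
    (RingHom.ext fun c => by simp only [RingHom.comp_apply, hε'C, hψC, hr1])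
  have hε'm : ∀ a ∈ maximalIdeal L, ε' a ∈ maximalIdeal L' := by
    intro a ha
    by_contra h
    have h1 := (notMem_maximalIdeal.1 h).map ψ
    rw [← RingHom.comp_apply, hψε] at h1
    exact (mem_maximalIdeal _).1 (algebraMap_mem ha) h1
  have hεLS : ∀ a : LS, ε' (ε a) = algebraMap C' L' (algebraMap LS (Cpl LS) a ⊗ₜ 1) := by
    intro a
    have h1 : ε'.comp ε = ((algebraMap C' L').comp
        (Algebra.TensorProduct.includeLeftRingHom : Cpl LS →+* C')).comp (algebraMap LS (Cpl LS)) := by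
      refine IsLocalization.ringHom_ext Q.primeCompl (RingHom.ext fun x => ?_)
      simp only [RingHom.comp_apply, hεR, hε'C]
      rw [← IsScalarTower.algebraMap_apply R LS (Cpl LS)]
      show algebraMap C' L' ((1 : Cpl LS) ⊗ₜ[R] algebraMap R C x) = algebraMap C' L' (algebraMap R (Cpl LS) x ⊗ₜ[R] 1)
      congr 1
      rw [Algebra.algebraMap_eq_smul_one, Algebra.algebraMap_eq_smul_one, TensorProduct.smul_tmul]
    exact RingHom.congr_fun h1 a
  have hC : ∀ (n : ℕ) (x : C'), ∃ a, algebraMap C' L' x - ε' a ∈ maximalIdeal L' ^ n := by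
    intro n x
    induction x using TensorProduct.induction_on with
    | zero => exact ⟨0, by simp⟩
    | tmul l c =>
      obtain ⟨a, ha⟩ := exists_ev_eq LS n l
      rw [← ev_algebraMap LS n a, ← sub_eq_zero, ← map_sub, ev_eq_zero_iff] at ha
      refine ⟨ε a * algebraMap C L c, ?_⟩
      let κ : Cpl LS →+* L' :=
        (algebraMap C' L').comp (Algebra.TensorProduct.includeLeftRingHom : Cpl LS →+* C')
      have hκ : ∀ b ∈ maximalIdeal (Cpl LS), κ b ∈ maximalIdeal L' := fun b hb =>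
        (IsLocalization.AtPrime.to_map_mem_maximal_iff L' P' _).2
          (show r (b ⊗ₜ 1) ∈ maximalIdeal (Cpl L) by rw [hr2]; exact hρ b hb)
      have h2 := Ideal.mul_mem_right (ε' (algebraMap C L c)) _ (map_pow_le κ hκ n ha)
      rw [map_mul, hεLS]
      rw [map_sub, sub_mul] at h2
      convert h2 using 2
      · rw [hε'C, show (l ⊗ₜ[R] c : C') = (l ⊗ₜ 1) * ((1 : Cpl LS) ⊗ₜ c) by simp, map_mul]
        rfl
      · rfl
    | add x y hx hy =>
      obtain ⟨a, ha⟩ := hx
      obtain ⟨b, hb⟩ := hy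
      exact ⟨a + b, by rw [map_add, map_add, add_sub_add_comm]; exact add_mem ha hb⟩
  have hsurj : ∀ (n : ℕ) (z : L'), ∃ a, z - ε' a ∈ maximalIdeal L' ^ n := by
    intro n z
    rcases Nat.eq_zero_or_pos n with rfl | hn
    · exact ⟨0, by simp⟩
    obtain ⟨⟨x, t⟩, ht⟩ := IsLocalization.surj P'.primeCompl z
    obtain ⟨a, ha⟩ := hC n x
    obtain ⟨b, hb⟩ := hC n t
    have htu : IsUnit (algebraMap C' L' (t : C')) := IsLocalization.map_units L' t
    have hbu : IsUnit b := by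
      by_contra hb0
      have h1 := Ideal.add_mem _ (Ideal.pow_le_self (Nat.pos_iff_ne_zero.1 hn) hb)
        (hε'm b ((mem_maximalIdeal b).2 hb0))
      rw [sub_add_cancel] at h1
      exact (mem_maximalIdeal _).1 h1 htu
    obtain ⟨c, rfl⟩ := hbu
    refine ⟨a * (↑c⁻¹ : L), (Ideal.mul_unit_mem_iff_mem _ htu).1 ?_⟩
    have h2 : ε' (c : L) * ε' (↑c⁻¹ : L) = 1 := by rw [← map_mul, c.mul_inv, map_one]
    have h1 : (z - ε' (a * (↑c⁻¹ : L))) * algebraMap C' L' (t : C') =
        (algebraMap C' L' x - ε' a) - ε' (a * (↑c⁻¹ : L)) * (algebraMap C' L' (t : C') - ε' (c : L)) := by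
      rw [map_mul]
      linear_combination ht - ε' a * h2
    rw [h1]
    exact sub_mem ha (Ideal.mul_mem_left _ _ hb)
  obtain ⟨Φ, hΦ⟩ := exists_cpl_equiv ε' hε'm ψ hψm hψε hsurj
  exact ⟨Φ, fun c => by rw [hΦ, hε'C], fun a => by rw [hΦ, hεLS]⟩

end BaseChange

end Groth.Agent.Misc12.EtNbhdApprox
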