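import Groth.Agent.Calg4.ColimitTensor
import Mathlib.RingTheory.Smooth.NoetherianDescent
import Mathlib.RingTheory.Etale.Basic

/-!
Descending algebras and maps to finitely generated subalgebras.
-/

set_option autoImplicit false

universe u

open TensorProduct

namespace Groth.Agent.Misc12.EtNbhdApprox

open Groth.Calg4

section Lift

variable {ι : Type u} [Preorder ι] [IsDirected ι (· ≤ ·)] [Nonempty ι]
  {A₀ : Type u} [CommRing A₀] {G : ι → Type u} [∀ i, CommRing (G i)] [∀ i, Algebra A₀ (G i)]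
  {A : Type u} [CommRing A] [Algebra A₀ A]
  {f : ∀ i j, i ≤ j → (G i →ₐ[A₀] G j)} {g : ∀ i, G i →ₐ[A₀] A}

theorem tensor_surj' (H : IsColim f g) {M : Type u} [CommRing M] [Algebra A₀ M] (z : A ⊗[A₀] M) :
    ∃ i, ∃ w : G i ⊗[A₀] M, Algebra.TensorProduct.map (g i) (AlgHom.id A₀ M) w = z := by
  obtain ⟨i, w, hw⟩ := H.tensor_surj (TensorProduct.comm A₀ A M z)
  refine ⟨i, (TensorProduct.comm A₀ (G i) M).symm w, (TensorProduct.comm A₀ A M).injective ?_⟩
  rw [← hw]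
  have key : ∀ v : M ⊗[A₀] G i, TensorProduct.comm A₀ A M
      (Algebra.TensorProduct.map (g i) (AlgHom.id A₀ M) ((TensorProduct.comm A₀ (G i) M).symm v)) =
        (g i).toLinearMap.lTensor M v := fun v => by
    induction v using TensorProduct.induction_on with
    | zero => simp
    | tmul m x => simp
    | add a b ha hb => simp only [map_add, ha, hb]
  exact key w

theorem tensor_kill' (H : IsColim f g) {M : Type u} [CommRing M] [Algebra A₀ M] {i : ι}
    (w : G i ⊗[A₀] M) (hw : Algebra.TensorProduct.map (g i) (AlgHom.id A₀ M) w = 0) :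
    ∃ j, ∃ φ : Trans g i j, Algebra.TensorProduct.map φ.1 (AlgHom.id A₀ M) w = 0 := by
  have key : ∀ {G' : Type u} [CommRing G'] [Algebra A₀ G'] (h : G i →ₐ[A₀] G') (v : G i ⊗[A₀] M),
      TensorProduct.comm A₀ G' M (Algebra.TensorProduct.map h (AlgHom.id A₀ M) v) =
        h.toLinearMap.lTensor M (TensorProduct.comm A₀ (G i) M v) := fun {G'} _ _ h v => by
    induction v using TensorProduct.induction_on with
    | zero => simp
    | tmul m x => simp
    | add a b ha hb => simp only [map_add, ha, hb]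
  obtain ⟨j, φ, hφ⟩ := H.tensor_kill (TensorProduct.comm A₀ (G i) M w)
    (by rw [← key, hw, map_zero])
  exact ⟨j, φ, (TensorProduct.comm A₀ (G j) M).injective (by rw [key, hφ, map_zero])⟩

/-- A map from a finitely presented algebra to a base change to the colimit comes from a stage. -/
theorem exists_lift_algHom (H : IsColim f g) {M P : Type u} [CommRing M] [Algebra A₀ M] [CommRing P]
    [Algebra A₀ P] [Algebra.FinitePresentation A₀ P] (F : P →ₐ[A₀] A ⊗[A₀] M) :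
    ∃ i, ∃ Fi : P →ₐ[A₀] G i ⊗[A₀] M,
      (Algebra.TensorProduct.map (g i) (AlgHom.id A₀ M)).comp Fi = F := by
  classical
  obtain ⟨n, q, hq, hker⟩ := (‹Algebra.FinitePresentation A₀ P›).out
  obtain ⟨m, r, hr⟩ := Submodule.fg_iff_exists_fin_generating_family.1 hker
  have lifts : ∀ s : Finset (Fin n), ∃ i, ∃ w : Fin n → G i ⊗[A₀] M,
      ∀ k ∈ s, Algebra.TensorProduct.map (g i) (AlgHom.id A₀ M) (w k) = F (q (MvPolynomial.X k)) := by
    intro s
    induction s using Finset.induction_on with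
    | empty => exact ⟨Classical.arbitrary ι, 0, by simp⟩
    | insert a s ha ih =>
      obtain ⟨i, w, hw⟩ := ih
      obtain ⟨j, v, hv⟩ := tensor_surj' H (F (q (MvPolynomial.X a)))
      obtain ⟨k, ⟨φ⟩, ⟨ψ⟩⟩ := H.exists_common i j
      have hc : ∀ {i' : ι} (χ : Trans g i' k) (z : G i' ⊗[A₀] M),
          Algebra.TensorProduct.map (g k) (AlgHom.id A₀ M)
            (Algebra.TensorProduct.map χ.1 (AlgHom.id A₀ M) z) =
          Algebra.TensorProduct.map (g i') (AlgHom.id A₀ M) z := fun {i'} χ z => by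
        rw [← AlgHom.comp_apply, ← Algebra.TensorProduct.map_comp, χ.2, AlgHom.comp_id]
      refine ⟨k, Function.update (fun x => Algebra.TensorProduct.map φ.1 (AlgHom.id A₀ M) (w x)) a
        (Algebra.TensorProduct.map ψ.1 (AlgHom.id A₀ M) v), fun x hx => ?_⟩
      rcases Finset.mem_insert.mp hx with rfl | hx
      · rw [Function.update_self, hc, hv]
      · rw [Function.update_of_ne (ne_of_mem_of_not_mem hx ha), hc, hw x hx]
  obtain ⟨i, w, hw⟩ := lifts Finset.univ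
  have hcomp : ∀ x, Algebra.TensorProduct.map (g i) (AlgHom.id A₀ M) (MvPolynomial.aeval w x) =
      F (q x) := fun x => by
    rw [← AlgHom.comp_apply, ← AlgHom.comp_apply F q]
    exact DFunLike.congr_fun (MvPolynomial.algHom_ext fun k => by simp [hw k (Finset.mem_univ k)]) x
  have kills : ∀ s : Finset (Fin m), ∃ j, ∃ φ : Trans g i j,
      ∀ l ∈ s, Algebra.TensorProduct.map φ.1 (AlgHom.id A₀ M) (MvPolynomial.aeval w (r l)) = 0 := by
    intro s
    induction s using Finset.induction_on with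
    | empty => exact ⟨i, Trans.refl i, by simp⟩
    | insert a s _ ih =>
      obtain ⟨j, φ, hφ⟩ := ih
      obtain ⟨k, ψ, hψ⟩ := tensor_kill' H (i := j)
        (Algebra.TensorProduct.map φ.1 (AlgHom.id A₀ M) (MvPolynomial.aeval w (r a))) (by
          rw [← AlgHom.comp_apply, ← Algebra.TensorProduct.map_comp, φ.2, AlgHom.comp_id, hcomp,
            show q (r a) = 0 from hr.le (Submodule.subset_span ⟨a, rfl⟩), map_zero])
      refine ⟨k, φ.trans ψ, fun l hl => ?_⟩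
      have h1 : Algebra.TensorProduct.map (φ.trans ψ).1 (AlgHom.id A₀ M) =
          (Algebra.TensorProduct.map ψ.1 (AlgHom.id A₀ M)).comp
            (Algebra.TensorProduct.map φ.1 (AlgHom.id A₀ M)) := by
        rw [← Algebra.TensorProduct.map_comp, AlgHom.comp_id]; rfl
      rw [h1, AlgHom.comp_apply]
      rcases Finset.mem_insert.mp hl with rfl | hl
      · exact hψ
      · rw [hφ l hl, map_zero]
  obtain ⟨j, φ, hφ⟩ := kills Finset.univ
  let h₁ : MvPolynomial (Fin n) A₀ →ₐ[A₀] G j ⊗[A₀] M :=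
    (Algebra.TensorProduct.map φ.1 (AlgHom.id A₀ M)).comp (MvPolynomial.aeval w)
  have hk : RingHom.ker q.toRingHom ≤ RingHom.ker h₁.toRingHom := by
    rw [← hr]
    exact Submodule.span_le.2 (by rintro _ ⟨l, rfl⟩; exact hφ l (Finset.mem_univ l))
  refine ⟨j, q.liftOfSurjective hq h₁ hk, AlgHom.ext fun x => ?_⟩
  obtain ⟨x, rfl⟩ := hq x
  rw [AlgHom.comp_apply, AlgHom.liftOfSurjective_apply]
  rw [← hcomp]
  show Algebra.TensorProduct.map (g j) (AlgHom.id A₀ M)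
    (Algebra.TensorProduct.map φ.1 (AlgHom.id A₀ M) (MvPolynomial.aeval w x)) = _
  rw [← AlgHom.comp_apply, ← Algebra.TensorProduct.map_comp, φ.2, AlgHom.comp_id]

end Lift

variable {R : Type u} [CommRing R] {Λ : Type u} [CommRing Λ] [Algebra R Λ]

theorem isColim_fg : IsColim (A₀ := R) (G := fun i : {H : Subalgebra R Λ // H.FG} => ↥i.1)
    (f := fun _ _ h => Subalgebra.inclusion h) (g := fun i => i.1.val) where
  comp _ _ _ := rfl
  surj a := ⟨⟨Algebra.adjoin R {a}, ⟨{a}, by simp⟩⟩, ⟨a, Algebra.subset_adjoin rfl⟩, rfl⟩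
  ker i x hx := ⟨i, le_refl i, Subtype.ext hx⟩

instance : Nonempty {H : Subalgebra R Λ // H.FG} := ⟨⟨⊥, Subalgebra.fg_bot⟩⟩

instance : IsDirected {H : Subalgebra R Λ // H.FG} (· ≤ ·) :=
  ⟨fun a b => ⟨⟨a.1 ⊔ b.1, a.2.sup b.2⟩, (le_sup_left : a.1 ≤ _), (le_sup_right : b.1 ≤ _)⟩⟩

instance subalgebraOfLE {H : Subalgebra R Λ} (i : {K : Subalgebra R Λ // K.FG ∧ H ≤ K}) :
    Algebra H ↥i.1 :=
  (Subalgebra.inclusion i.2.2).toRingHom.toAlgebra

theorem isColim_fg_above (H : Subalgebra R Λ) (hH : H.FG) :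
    IsColim (A₀ := H) (G := fun i : {K : Subalgebra R Λ // K.FG ∧ H ≤ K} => ↥i.1)
      (f := fun _ _ h =>
        ({ (Subalgebra.inclusion (show _ ≤ _ from h)).toRingHom with commutes' := fun _ => rfl } : _ →ₐ[H] _))
      (g := fun i => ({ i.1.val.toRingHom with commutes' := fun _ => rfl } : ↥i.1 →ₐ[H] Λ)) where
  comp _ _ _ := rfl
  surj a := ⟨⟨H ⊔ Algebra.adjoin R {a}, hH.sup ⟨{a}, by simp⟩, le_sup_left⟩,
    ⟨a, (le_sup_right : Algebra.adjoin R {a} ≤ _) (Algebra.subset_adjoin rfl)⟩, rfl⟩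
  ker i x hx := ⟨i, le_refl i, Subtype.ext hx⟩

theorem nonempty_above {H : Subalgebra R Λ} (hH : H.FG) :
    Nonempty {K : Subalgebra R Λ // K.FG ∧ H ≤ K} := ⟨⟨H, hH, le_rfl⟩⟩

theorem directed_above (H : Subalgebra R Λ) :
    IsDirected {K : Subalgebra R Λ // K.FG ∧ H ≤ K} (· ≤ ·) :=
  ⟨fun a b => ⟨⟨a.1 ⊔ b.1, a.2.1.sup b.2.1, a.2.2.trans le_sup_left⟩,
    (le_sup_left : a.1 ≤ _), (le_sup_right : b.1 ≤ _)⟩⟩

section Core

variable {G C A₁ B₁ E' E₀ : Type u} [CommRing E₀] [CommRing G] [Algebra R G] [Algebra G Λ] [IsScalarTower R G Λ]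
  [CommRing C] [Algebra R C] [CommRing A₁] [CommRing B₁] [Algebra A₁ B₁] [Algebra A₁ (G ⊗[R] C)]
  [Algebra A₁ (Λ ⊗[R] C)] [CommRing E'] [Algebra (Λ ⊗[R] C) E'] [Algebra Λ E']
  [IsScalarTower Λ (Λ ⊗[R] C) E'] [Algebra G E'] [IsScalarTower G Λ E'] [Algebra (G ⊗[R] C) E₀]
  [Algebra G E₀] [IsScalarTower G (G ⊗[R] C) E₀] [Algebra A₁ E₀] [IsScalarTower A₁ (G ⊗[R] C) E₀]

theorem exists_model_equiv
    (hFi' : ∀ a : A₁, Algebra.TensorProduct.map (IsScalarTower.toAlgHom R G Λ) (AlgHom.id R C)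
      (algebraMap A₁ (G ⊗[R] C) a) = algebraMap A₁ (Λ ⊗[R] C) a)
    (e₀ : E₀ ≃ₐ[G ⊗[R] C] (G ⊗[R] C) ⊗[A₁] B₁)
    (eB : E' ≃ₐ[Λ ⊗[R] C] (Λ ⊗[R] C) ⊗[A₁] B₁) :
    ∃ e : (Λ ⊗[G] E₀) ≃ₐ[Λ] E',
      ∀ c : C, e (1 ⊗ₜ algebraMap (G ⊗[R] C) E₀ (1 ⊗ₜ c)) =
        algebraMap (Λ ⊗[R] C) E' (1 ⊗ₜ c) := by
  let ι₁ : G ⊗[R] C →ₐ[R] Λ ⊗[R] C := Algebra.TensorProduct.map (IsScalarTower.toAlgHom R G Λ) (AlgHom.id R C)
  -- the map to `E'`
  let ι₁' : G ⊗[R] C →ₐ[A₁] Λ ⊗[R] C := { ι₁.toRingHom with commutes' := hFi' }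
  let π₀ : E₀ →ₐ[A₁] (Λ ⊗[R] C) ⊗[A₁] B₁ :=
    (Algebra.TensorProduct.map ι₁' (AlgHom.id A₁ B₁)).comp (e₀.restrictScalars A₁).toAlgHom
  let π : E₀ →+* E' := eB.symm.toRingEquiv.toRingHom.comp π₀.toRingHom
  let eE := eB.symm
  have heE : ∀ x, eE (x ⊗ₜ[A₁] (1 : B₁)) = algebraMap (Λ ⊗[R] C) E' x := fun x => eE.commutes x
  have hπC : ∀ x : G ⊗[R] C, π (algebraMap _ E₀ x) = algebraMap (Λ ⊗[R] C) E' (ι₁ x) := fun x => by
    show eE (Algebra.TensorProduct.map ι₁' (AlgHom.id A₁ B₁) (e₀ (algebraMap _ E₀ x))) = _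
    rw [e₀.commutes, Algebra.TensorProduct.algebraMap_apply, Algebra.TensorProduct.map_tmul, map_one]
    exact heE _
  let πH : E₀ →ₐ[G] E' :=
    { π with
      commutes' := fun h => by
        show π (algebraMap G E₀ h) = algebraMap G E' h
        rw [IsScalarTower.algebraMap_apply G (G ⊗[R] C) E₀, hπC, IsScalarTower.algebraMap_apply G Λ E',
          IsScalarTower.algebraMap_apply Λ (Λ ⊗[R] C) E']
        simp [ι₁] }
  let fwd : Λ ⊗[G] E₀ →ₐ[Λ] E' :=
    Algebra.TensorProduct.lift (Algebra.ofId Λ E') πH fun _ _ => Commute.all _ _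
  -- the inverse
  let cmp : Λ ⊗[R] C →ₐ[R] Λ ⊗[G] E₀ :=
    Algebra.TensorProduct.lift
      ((IsScalarTower.toAlgHom R Λ (Λ ⊗[G] E₀)))
      ({ ((Algebra.TensorProduct.includeRight (R := G) (A := Λ) (B := E₀)).toRingHom.comp
            ((algebraMap (G ⊗[R] C) E₀).comp
              (Algebra.TensorProduct.includeRight (R := R) (A := G) (B := C)).toRingHom)) with
        commutes' := fun r => by
          show (1 : Λ) ⊗ₜ[G] algebraMap (G ⊗[R] C) E₀
            (Algebra.TensorProduct.includeRight (algebraMap R C r)) = _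
          rw [AlgHom.commutes, IsScalarTower.algebraMap_apply R G (G ⊗[R] C),
            ← IsScalarTower.algebraMap_apply G (G ⊗[R] C) E₀]
          exact ((Algebra.TensorProduct.includeRight (R := G) (A := Λ) (B := E₀)).commutes _).trans
            (IsScalarTower.algebraMap_apply R G (Λ ⊗[G] E₀) r).symm } : C →ₐ[R] Λ ⊗[G] E₀)
      fun _ _ => Commute.all _ _
  have hcmp : ∀ x : G ⊗[R] C, cmp (ι₁ x) = (1 : Λ) ⊗ₜ algebraMap _ E₀ x := fun x => by
    induction x using TensorProduct.induction_on with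
    | zero => simp
    | tmul h c =>
      show cmp ((algebraMap G Λ h) ⊗ₜ c) = _
      refine (Algebra.TensorProduct.lift_tmul _ _ _ _ _).trans ?_
      show algebraMap Λ (Λ ⊗[G] E₀) (algebraMap G Λ h) * ((1 : Λ) ⊗ₜ algebraMap _ E₀ ((1 : G) ⊗ₜ c)) = _
      have h1 : algebraMap Λ (Λ ⊗[G] E₀) (algebraMap G Λ h) = (1 : Λ) ⊗ₜ algebraMap G E₀ h := by
        rw [Algebra.TensorProduct.algebraMap_apply]
        exact ((Algebra.TensorProduct.includeRight (R := G) (A := Λ) (B := E₀)).commutes h).symm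
      rw [h1, Algebra.TensorProduct.tmul_mul_tmul, one_mul,
        IsScalarTower.algebraMap_apply G (G ⊗[R] C) E₀, ← map_mul,
        Algebra.TensorProduct.algebraMap_apply, Algebra.TensorProduct.tmul_mul_tmul, one_mul, mul_one]
      rfl
    | add a b ha hb => simp only [map_add, ha, hb, TensorProduct.tmul_add]
  let : Algebra A₁ (Λ ⊗[G] E₀) :=
    ((Algebra.TensorProduct.includeRight (R := G) (A := Λ) (B := E₀)).toRingHom.comp
      (algebraMap A₁ E₀)).toAlgebra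
  let cmp' : Λ ⊗[R] C →ₐ[A₁] Λ ⊗[G] E₀ :=
    { cmp.toRingHom with
      commutes' := fun a => by
        show cmp (algebraMap A₁ (Λ ⊗[R] C) a) = _
        rw [← hFi' a, hcmp, ← IsScalarTower.algebraMap_apply A₁ (G ⊗[R] C) E₀]
        rfl }
  let ib : B₁ →ₐ[A₁] Λ ⊗[G] E₀ :=
    { (Algebra.TensorProduct.includeRight (R := G) (A := Λ) (B := E₀)).toRingHom.comp
        ((e₀.symm.restrictScalars A₁).toAlgHom.comp
          (Algebra.TensorProduct.includeRight (R := A₁) (A := G ⊗[R] C) (B := B₁))).toRingHom with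
      commutes' := fun a => congrArg (fun y => (1 : Λ) ⊗ₜ[G] y)
        (((e₀.symm.restrictScalars A₁).toAlgHom.comp
          (Algebra.TensorProduct.includeRight (R := A₁) (A := G ⊗[R] C) (B := B₁))).commutes a) }
  let bwd : (Λ ⊗[R] C) ⊗[A₁] B₁ →ₐ[A₁] Λ ⊗[G] E₀ :=
    Algebra.TensorProduct.lift cmp' ib fun _ _ => Commute.all _ _
  have hfb : ∀ z, fwd (bwd z) = eE z := fun z => by
    induction z using TensorProduct.induction_on with
    | zero => simp
    | tmul x b =>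
      have hb : x ⊗ₜ[A₁] b = (x ⊗ₜ (1 : B₁)) * ((1 : Λ ⊗[R] C) ⊗ₜ b) := by simp
      rw [hb, map_mul, map_mul, map_mul]
      congr 1
      · rw [heE, show bwd (x ⊗ₜ (1 : B₁)) = cmp x by simp [bwd, cmp']]
        clear hb
        induction x using TensorProduct.induction_on with
        | zero => simp
        | tmul l c =>
          simp only [cmp, Algebra.TensorProduct.lift_tmul, map_mul]
          rw [show (l ⊗ₜ[R] c : Λ ⊗[R] C) = (l ⊗ₜ 1) * (1 ⊗ₜ c) by simp, map_mul]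
          congr 1
          · rw [IsScalarTower.coe_toAlgHom', AlgHom.commutes,
              IsScalarTower.algebraMap_apply Λ (Λ ⊗[R] C) E']
            rfl
          · show fwd ((1 : Λ) ⊗ₜ algebraMap _ E₀ ((1 : G) ⊗ₜ c)) = _
            simp only [fwd, Algebra.TensorProduct.lift_tmul, map_one, one_mul]
            exact (hπC _).trans (by simp [ι₁])
        | add a b ha hb => simp only [map_add, TensorProduct.add_tmul, ha, hb]
      · have h1 : bwd ((1 : Λ ⊗[R] C) ⊗ₜ b) = ib b := by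
          simp only [bwd, Algebra.TensorProduct.lift_tmul, map_one, one_mul]
        rw [h1]
        show fwd ((1 : Λ) ⊗ₜ e₀.symm ((1 : G ⊗[R] C) ⊗ₜ b)) = _
        simp only [fwd, Algebra.TensorProduct.lift_tmul, map_one, one_mul]
        show eE (Algebra.TensorProduct.map ι₁' (AlgHom.id A₁ B₁) (e₀ (e₀.symm _))) = _
        rw [e₀.apply_symm_apply, Algebra.TensorProduct.map_tmul, map_one, AlgHom.id_apply]
    | add a b ha hb => simp only [map_add, ha, hb]
  have hbf : ∀ z, bwd (eE.symm (fwd z)) = z := fun z => by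
    induction z using TensorProduct.induction_on with
    | zero => simp
    | tmul l y =>
      have h1 : fwd (l ⊗ₜ y) = algebraMap Λ E' l * π y := Algebra.TensorProduct.lift_tmul _ _ _ l y
      rw [h1, map_mul, map_mul]
      have h2 : bwd (eE.symm (algebraMap Λ E' l)) = l ⊗ₜ[G] (1 : E₀) := by
        rw [IsScalarTower.algebraMap_apply Λ (Λ ⊗[R] C) E', AlgEquiv.commutes]
        show bwd ((l ⊗ₜ[R] (1 : C)) ⊗ₜ[A₁] (1 : B₁)) = _
        simp [bwd, cmp', cmp, ← Algebra.TensorProduct.one_def]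
      have h3 : eE.symm (π y) = π₀ y := eE.symm_apply_apply _
      have h4 : ∀ y, bwd (π₀ y) = (1 : Λ) ⊗ₜ y := fun y => by
        obtain ⟨y, rfl⟩ := e₀.symm.surjective y
        show bwd (Algebra.TensorProduct.map ι₁' (AlgHom.id A₁ B₁) (e₀ (e₀.symm y))) = _
        rw [e₀.apply_symm_apply]
        induction y using TensorProduct.induction_on with
        | zero => simp
        | tmul x b =>
          rw [Algebra.TensorProduct.map_tmul]
          simp only [bwd, Algebra.TensorProduct.lift_tmul, AlgHom.id_apply]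
          show cmp (ι₁ x) * ((1 : Λ) ⊗ₜ e₀.symm ((1 : G ⊗[R] C) ⊗ₜ b)) = _
          rw [hcmp, Algebra.TensorProduct.tmul_mul_tmul, one_mul, ← e₀.symm.commutes x, ← map_mul,
            Algebra.TensorProduct.algebraMap_apply, Algebra.TensorProduct.tmul_mul_tmul, one_mul, mul_one]
          rfl
        | add a b ha hb => simp only [map_add, ha, hb, TensorProduct.tmul_add]
      rw [h2, h3, h4, Algebra.TensorProduct.tmul_mul_tmul, one_mul, mul_one]
    | add a b ha hb => simp only [map_add, ha, hb]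
  exact ⟨AlgEquiv.ofBijective fwd ⟨Function.LeftInverse.injective (g := fun x => bwd (eE.symm x)) hbf,
    fun x => ⟨bwd (eE.symm x), (hfb _).trans (eE.apply_symm_apply x)⟩⟩, fun c => by
      rw [AlgEquiv.coe_ofBijective]
      simp only [fwd, Algebra.TensorProduct.lift_tmul, map_one, one_mul]
      exact (hπC _).trans (by simp [ι₁])⟩

end Core

theorem exists_etale_baseChange {M A₁ B₁ : Type u} [CommRing M] [CommRing A₁] [CommRing B₁]
    [Algebra A₁ M] [Algebra A₁ B₁] [Algebra.Etale A₁ B₁] :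
    ∃ (E₀ : Type u) (_ : CommRing E₀) (_ : Algebra M E₀), Algebra.Etale M E₀ ∧
      Nonempty (E₀ ≃ₐ[M] M ⊗[A₁] B₁) :=
  ⟨M ⊗[A₁] B₁, inferInstance, inferInstance, inferInstance, ⟨AlgEquiv.refl⟩⟩

/-- An étale algebra over a base change to `Λ` has a model over a finitely generated subalgebra. -/
theorem exists_etale_model [IsNoetherianRing R] (C : Type u) [CommRing C] [Algebra R C] (E' : Type u)
    [CommRing E'] [Algebra (Λ ⊗[R] C) E'] [Algebra.Etale (Λ ⊗[R] C) E'] [Algebra Λ E']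
    [IsScalarTower Λ (Λ ⊗[R] C) E'] (S : Subalgebra R Λ) (hS : S.FG) :
    ∃ (H : Subalgebra R Λ), H.FG ∧ S ≤ H ∧
      ∃ (E₀ : Type u) (_ : CommRing E₀) (_ : Algebra (↥H ⊗[R] C) E₀) (_ : Algebra ↥H E₀)
        (_ : IsScalarTower ↥H (↥H ⊗[R] C) E₀) (e : (Λ ⊗[↥H] E₀) ≃ₐ[Λ] E'),
        Algebra.Etale (↥H ⊗[R] C) E₀ ∧ ∀ c : C, e (1 ⊗ₜ algebraMap (↥H ⊗[R] C) E₀ (1 ⊗ₜ c)) =
          algebraMap (Λ ⊗[R] C) E' (1 ⊗ₜ c) := by
  obtain ⟨A₁, B₁, _, _, hA₁, hB₁, ⟨eB⟩⟩ :=
    Algebra.Etale.exists_subalgebra_fg R (Λ ⊗[R] C) E'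
  have : Algebra.FiniteType R A₁ := (Subalgebra.fg_iff_finiteType A₁).mp hA₁
  have : Algebra.FinitePresentation R A₁ := Algebra.FinitePresentation.of_finiteType.1 inferInstance
  obtain ⟨i, Fi, hFi⟩ := exists_lift_algHom (isColim_fg (R := R) (Λ := Λ)) (M := C) A₁.val
  let H : Subalgebra R Λ := i.1 ⊔ S
  let Fi' : A₁ →ₐ[R] ↥H ⊗[R] C :=
    (Algebra.TensorProduct.map (Subalgebra.inclusion (le_sup_left : i.1 ≤ H)) (AlgHom.id R C)).comp Fi
  let ι₁ : ↥H ⊗[R] C →ₐ[R] Λ ⊗[R] C :=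
    Algebra.TensorProduct.map (IsScalarTower.toAlgHom R ↥H Λ) (AlgHom.id R C)
  have hFi' : ∀ a : A₁, ι₁ (Fi' a) = a := fun a => by
    rw [← AlgHom.comp_apply, ← AlgHom.comp_assoc, ← Algebra.TensorProduct.map_comp, AlgHom.comp_id]
    exact DFunLike.congr_fun hFi a
  let : Algebra A₁ (↥H ⊗[R] C) := Fi'.toRingHom.toAlgebra
  obtain ⟨E₀, iE, aM, hE, ⟨e₀⟩⟩ := exists_etale_baseChange (M := ↥H ⊗[R] C) (A₁ := A₁) (B₁ := B₁)
  let aH : Algebra ↥H E₀ :=
    ((algebraMap (↥H ⊗[R] C) E₀).comp (algebraMap ↥H (↥H ⊗[R] C))).toAlgebra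
  have hTH : IsScalarTower ↥H (↥H ⊗[R] C) E₀ :=
    @IsScalarTower.of_algebraMap_eq' ↥H (↥H ⊗[R] C) E₀ _ _ _ _ _ _ rfl
  let aA : Algebra A₁ E₀ := ((algebraMap (↥H ⊗[R] C) E₀).comp (algebraMap A₁ (↥H ⊗[R] C))).toAlgebra
  have hTA : IsScalarTower A₁ (↥H ⊗[R] C) E₀ := IsScalarTower.of_algebraMap_eq' rfl
  obtain ⟨e, he⟩ := exists_model_equiv (G := ↥H) (A₁ := A₁) hFi' e₀ eB
  exact ⟨H, i.2.sup hS, le_sup_right, E₀, iE, aM, aH, hTH, e, hE, he⟩

end Groth.Agent.Misc12.EtNbhdApprox
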