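import Groth.Agent.Calg4.ColimitSmooth
import Mathlib.RingTheory.RingHom.Etale
import Mathlib.RingTheory.IsTensorProduct

/-!
Base change of étale maps out of tensor products.
-/

set_option autoImplicit false

universe u

open TensorProduct

namespace Groth.Agent.Misc12.EtNbhdApprox

variable {T K B E : Type u} [CommRing T] [CommRing K] [CommRing B] [CommRing E]
  [Algebra T K] [Algebra T B] [Algebra T E] [Algebra K E] [IsScalarTower T K E]

/-- The map out of a tensor product given by its restriction to the right factor. -/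
noncomputable def jLift (β : B →ₐ[T] E) : K ⊗[T] B →ₐ[K] E :=
  Algebra.TensorProduct.lift (Algebra.ofId K E) β fun _ _ => Commute.all _ _

theorem jLift_tmul (β : B →ₐ[T] E) (k : K) (b : B) : jLift β (k ⊗ₜ[T] b) = algebraMap K E k * β b :=
  Algebra.TensorProduct.lift_tmul _ _ _ _ _

variable (K) in
/-- The base change of a map from `B`. -/
noncomputable def bcMap (S : Type u) [CommRing S] [Algebra T S] [Algebra K S] [IsScalarTower T K S]
    (β : B →ₐ[T] E) : B →ₐ[T] S ⊗[K] E :=
  ((Algebra.TensorProduct.includeRight (R := K) (A := S) (B := E)).restrictScalars T).comp β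

theorem bcMap_apply (S : Type u) [CommRing S] [Algebra T S] [Algebra K S] [IsScalarTower T K S]
    (β : B →ₐ[T] E) (b : B) : bcMap K S β b = (1 : S) ⊗ₜ β b := rfl

/-- A ring map that differs from an étale one by bijections is étale. -/
theorem etale_of_bijective_square {A A' X X' : Type u} [CommRing A] [CommRing A'] [CommRing X]
    [CommRing X'] {h : A →+* X} {h' : A' →+* X'} (p : A →+* A') (q : X →+* X')
    (hp : Function.Bijective p) (hq : Function.Bijective q) (hsq : q.comp h = h'.comp p) :
    h.Etale ↔ h'.Etale := by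
  let q' := RingEquiv.ofBijective q hq
  let p' := RingEquiv.ofBijective p hp
  constructor
  · intro hh
    have h1 : h' = (q.comp h).comp p'.symm.toRingHom := by
      rw [hsq]
      exact RingHom.ext fun a => congrArg h' (p'.apply_symm_apply a).symm
    rw [h1]
    exact RingHom.Etale.stableUnderComposition _ _
      (RingHom.Etale.of_bijective (show Function.Bijective p'.symm.toRingHom from p'.symm.bijective))
      (RingHom.Etale.stableUnderComposition _ _ hh (RingHom.Etale.of_bijective hq))
  · intro hh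
    have h1 : h = q'.symm.toRingHom.comp (h'.comp p) := by
      rw [← hsq]
      exact RingHom.ext fun a => (q'.symm_apply_apply (h a)).symm
    rw [h1]
    exact RingHom.Etale.stableUnderComposition _ _
      (RingHom.Etale.stableUnderComposition _ _ (RingHom.Etale.of_bijective hp) hh)
      (RingHom.Etale.of_bijective (show Function.Bijective q'.symm.toRingHom from q'.symm.bijective))

theorem etale_jLift_baseChange (β : B →ₐ[T] E) (h : (jLift (K := K) β).toRingHom.Etale)
    (S : Type u) [CommRing S] [Algebra T S] [Algebra K S] [IsScalarTower T K S] :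
    (jLift (K := S) (bcMap K S β)).toRingHom.Etale := by
  let M := K ⊗[T] B
  let : Algebra M E := (jLift (K := K) β).toRingHom.toAlgebra
  have : IsScalarTower K M E := IsScalarTower.of_algebraMap_eq fun k => ((jLift β).commutes k).symm
  let : Algebra M (S ⊗[K] M) := Algebra.TensorProduct.rightAlgebra
  have : Algebra.Etale M E := RingHom.etale_algebraMap.1 h
  let c := Algebra.TensorProduct.cancelBaseChange T K S S B
  let e : (S ⊗[K] M) ⊗[M] E ≃ₐ[S] S ⊗[K] E := Algebra.IsPushout.cancelBaseChangeAlg K S M (S ⊗[K] M) E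
  have h1 : (algebraMap (S ⊗[K] M) ((S ⊗[K] M) ⊗[M] E)).Etale := RingHom.etale_algebraMap.2 inferInstance
  refine (etale_of_bijective_square c.toRingEquiv.toRingHom e.toRingEquiv.toRingHom c.bijective e.bijective ?_).1 h1
  refine RingHom.ext fun z => ?_
  induction z using TensorProduct.induction_on with
  | zero => simp
  | tmul s m =>
    induction m using TensorProduct.induction_on with
    | zero => simp
    | tmul k b =>
      show e ((s ⊗ₜ[K] (k ⊗ₜ[T] b)) ⊗ₜ[M] (1 : E)) = jLift (bcMap K S β) (c (s ⊗ₜ[K] (k ⊗ₜ[T] b)))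
      have h3 : (s ⊗ₜ[K] (k ⊗ₜ[T] b) : S ⊗[K] M) = algebraMap S (S ⊗[K] M) s * algebraMap M (S ⊗[K] M) (k ⊗ₜ[T] b) := by
        simp [RingHom.algebraMap_toAlgebra]
      have h2 : (s ⊗ₜ[K] (k ⊗ₜ[T] b)) ⊗ₜ[M] (1 : E) =
          s • ((1 : S ⊗[K] M) ⊗ₜ[M] (algebraMap M E (k ⊗ₜ[T] b))) := by
        rw [TensorProduct.smul_tmul', show s • (1 : S ⊗[K] M) = algebraMap S (S ⊗[K] M) s from
          (Algebra.algebraMap_eq_smul_one s).symm, h3, ← mul_one (1 : E), ← Algebra.TensorProduct.tmul_mul_tmul,
          Algebra.TensorProduct.tmul_one_eq_one_tmul, Algebra.TensorProduct.tmul_mul_tmul, one_mul, mul_one]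
      rw [h2, map_smul, Algebra.IsPushout.cancelBaseChangeAlg_tmul, Algebra.TensorProduct.cancelBaseChange_tmul,
        jLift_tmul, bcMap_apply]
      show s • ((1 : S) ⊗ₜ[K] jLift β (k ⊗ₜ b)) = _
      rw [jLift_tmul, Algebra.TensorProduct.algebraMap_apply, Algebra.TensorProduct.tmul_mul_tmul,
        TensorProduct.smul_tmul', smul_eq_mul, mul_one, one_mul]
      simp [← Algebra.smul_def, TensorProduct.smul_tmul]
    | add a b ha hb => simp only [TensorProduct.tmul_add, map_add, ha, hb]
  | add a b ha hb => simp only [map_add, ha, hb]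

theorem etale_pushed_iff (β : B →ₐ[T] E) (S : Type u) [CommRing S] [Algebra T S] [Algebra K S]
    [IsScalarTower T K S] :
    letI := (jLift (K := K) β).toRingHom.toAlgebra
    (algebraMap ((K ⊗[T] B) ⊗[K] S) (((K ⊗[T] B) ⊗[K] S) ⊗[K ⊗[T] B] E)).Etale ↔
      (jLift (K := S) (bcMap K S β)).toRingHom.Etale := by
  let M := K ⊗[T] B
  let : Algebra M E := (jLift (K := K) β).toRingHom.toAlgebra
  have : IsScalarTower K M E := IsScalarTower.of_algebraMap_eq fun k => ((jLift β).commutes k).symm
  let : Algebra S (M ⊗[K] S) := Algebra.TensorProduct.rightAlgebra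
  have : Algebra.IsPushout K S M (M ⊗[K] S) := inferInstance
  let e : (M ⊗[K] S) ⊗[M] E ≃ₐ[S] S ⊗[K] E := Algebra.IsPushout.cancelBaseChangeAlg K S M (M ⊗[K] S) E
  let c := (Algebra.TensorProduct.comm K M S).toRingEquiv.trans
    (Algebra.TensorProduct.cancelBaseChange T K S S B).toRingEquiv
  refine etale_of_bijective_square c.toRingHom e.toRingEquiv.toRingHom c.bijective e.bijective ?_
  refine RingHom.ext fun z => ?_
  induction z using TensorProduct.induction_on with
  | zero => simp
  | tmul m s =>
    induction m using TensorProduct.induction_on with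
    | zero => simp
    | tmul k b =>
      show e (((k ⊗ₜ[T] b) ⊗ₜ[K] s) ⊗ₜ[M] (1 : E)) =
        jLift (bcMap K S β) (Algebra.TensorProduct.cancelBaseChange T K S S B (s ⊗ₜ[K] (k ⊗ₜ[T] b)))
      have h3 : ((k ⊗ₜ[T] b) ⊗ₜ[K] s : M ⊗[K] S) = algebraMap S (M ⊗[K] S) s * algebraMap M (M ⊗[K] S) (k ⊗ₜ[T] b) := by
        simp [RingHom.algebraMap_toAlgebra]
      have h2 : ((k ⊗ₜ[T] b) ⊗ₜ[K] s) ⊗ₜ[M] (1 : E) =
          s • ((1 : M ⊗[K] S) ⊗ₜ[M] (algebraMap M E (k ⊗ₜ[T] b))) := by
        rw [TensorProduct.smul_tmul', show s • (1 : M ⊗[K] S) = algebraMap S (M ⊗[K] S) s from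
          (Algebra.algebraMap_eq_smul_one s).symm, h3, ← mul_one (1 : E), ← Algebra.TensorProduct.tmul_mul_tmul,
          Algebra.TensorProduct.tmul_one_eq_one_tmul, Algebra.TensorProduct.tmul_mul_tmul, one_mul, mul_one]
      rw [h2, map_smul, Algebra.IsPushout.cancelBaseChangeAlg_tmul, Algebra.TensorProduct.cancelBaseChange_tmul,
        jLift_tmul, bcMap_apply]
      show s • ((1 : S) ⊗ₜ[K] jLift β (k ⊗ₜ b)) = _
      rw [jLift_tmul, Algebra.TensorProduct.algebraMap_apply, Algebra.TensorProduct.tmul_mul_tmul,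
        TensorProduct.smul_tmul', smul_eq_mul, mul_one, one_mul]
      simp [← Algebra.smul_def, TensorProduct.smul_tmul]
    | add a b ha hb => simp only [TensorProduct.add_tmul, map_add, ha, hb]
  | add a b ha hb => simp only [map_add, ha, hb]

end Groth.Agent.Misc12.EtNbhdApprox
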