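import Groth.Agent.Misc12.EtNbhdApprox.Descend
import Groth.Agent.Misc12.EtNbhdApprox.PushEtale

/-!
Simultaneous descent of an algebra étale over two base changes.
-/

set_option autoImplicit false

universe u

open TensorProduct

namespace Groth.Agent.Misc12.EtNbhdApprox

open Groth.Calg4

/-- The descended algebra, over a finitely presented algebra mapping to `Λ`. -/
structure Model (R Λ T C B E' : Type u) [CommRing R] [CommRing Λ] [Algebra R Λ] [CommRing T]
    [Algebra T Λ] [CommRing C] [Algebra R C] [CommRing B] [Algebra T B] [CommRing E'] [Algebra Λ E']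
    (γ' : C →+* E') (β' : B →+* E') where
  K : Type u
  [ringK : CommRing K]
  [algRK : Algebra R K]
  [algKΛ : Algebra K Λ]
  [towerK : IsScalarTower R K Λ]
  finiteType : Algebra.FiniteType R K
  [algTK : Algebra T K]
  [towerT : IsScalarTower T K Λ]
  E : Type u
  [ringE : CommRing E]
  [algKE : Algebra K E]
  [algRE : Algebra R E]
  [towerRE : IsScalarTower R K E]
  [algTE : Algebra T E]
  [towerTE : IsScalarTower T K E]
  γ : C →ₐ[R] E
  β : B →ₐ[T] E
  π : E →+* E'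
  π_alg : ∀ k, π (algebraMap K E k) = algebraMap Λ E' (algebraMap K Λ k)
  π_γ : ∀ c, π (γ c) = γ' c
  π_β : ∀ b, π (β b) = β' b
  etale_γ : (jLift (K := K) γ).toRingHom.Etale
  etale_β : (jLift (K := K) β).toRingHom.Etale

attribute [instance] Model.ringK Model.algRK Model.algKΛ Model.towerK Model.algTK Model.towerT
  Model.ringE Model.algKE Model.algRE Model.towerRE Model.algTE Model.towerTE

theorem exists_model_of_stage {R Λ T C B E' E₁ : Type u} [CommRing R] [IsNoetherianRing R] [CommRing Λ]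
    [Algebra R Λ] [CommRing T] [Algebra T Λ] [CommRing C] [Algebra R C]
    [CommRing B] [Algebra T B] [Algebra.FiniteType T B] [CommRing E']
    [Algebra Λ E'] [Algebra (Λ ⊗[R] C) E'] [Algebra (Λ ⊗[T] B) E']
    [IsScalarTower Λ (Λ ⊗[T] B) E'] [Algebra.Etale (Λ ⊗[T] B) E']
    (S₁ : Subalgebra R Λ) (hS₁ : S₁.FG) [Algebra T S₁] [IsScalarTower T S₁ Λ]
    [CommRing E₁] [Algebra S₁ E₁] [Algebra R E₁] [IsScalarTower R S₁ E₁] [Algebra T E₁]
    [IsScalarTower T S₁ E₁] [Algebra.FiniteType S₁ E₁]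
    (γ₁ : C →ₐ[R] E₁) (β₁ : B →ₐ[T] E₁) (hγ₁ : (jLift (K := ↥S₁) γ₁).toRingHom.Etale)
    (q : Λ ⊗[↥S₁] E₁ →+* E') (hq : Function.Bijective q)
    (hqΛ : ∀ (l : Λ) (z : E₁), q (l ⊗ₜ[↥S₁] z) = algebraMap Λ E' l * q ((1 : Λ) ⊗ₜ[↥S₁] z))
    (hqβ : ∀ b, q ((1 : Λ) ⊗ₜ[↥S₁] β₁ b) = algebraMap (Λ ⊗[T] B) E' ((1 : Λ) ⊗ₜ b))
    (hqγ : ∀ c, q ((1 : Λ) ⊗ₜ[↥S₁] γ₁ c) = algebraMap (Λ ⊗[R] C) E' ((1 : Λ) ⊗ₜ c)) :
    Nonempty (Model R Λ T C B E'
      ((algebraMap (Λ ⊗[R] C) E').comp (Algebra.TensorProduct.includeRight : C →ₐ[R] Λ ⊗[R] C).toRingHom)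
      ((algebraMap (Λ ⊗[T] B) E').comp (Algebra.TensorProduct.includeRight : B →ₐ[T] Λ ⊗[T] B).toRingHom)) := by
  let K := ↥S₁
  have hβΛ : (jLift (K := Λ) (bcMap K Λ β₁)).toRingHom.Etale := by
    refine (etale_of_bijective_square (RingHom.id _) q Function.bijective_id hq ?_).2
      (RingHom.etale_algebraMap.2 ‹Algebra.Etale (Λ ⊗[T] B) E'›)
    refine RingHom.ext fun z => ?_
    induction z using TensorProduct.induction_on with
    | zero => simp
    | tmul l b =>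
      show q (jLift (bcMap K Λ β₁) (l ⊗ₜ b)) = algebraMap (Λ ⊗[T] B) E' (l ⊗ₜ b)
      rw [jLift_tmul, bcMap_apply, Algebra.TensorProduct.algebraMap_apply,
        Algebra.TensorProduct.tmul_mul_tmul, mul_one, one_mul]
      refine (hqΛ l _).trans ?_
      rw [hqβ, IsScalarTower.algebraMap_apply Λ (Λ ⊗[T] B) E', ← map_mul,
        Algebra.TensorProduct.algebraMap_apply, Algebra.TensorProduct.tmul_mul_tmul, mul_one, one_mul]
      rfl
    | add a b ha hb => rw [map_add, map_add, ha, hb]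
  have : Algebra.FiniteType R K := (Subalgebra.fg_iff_finiteType S₁).mp hS₁
  have : IsNoetherianRing K := Algebra.FiniteType.isNoetherianRing R K
  have : IsNoetherianRing (K ⊗[T] B) := Algebra.FiniteType.isNoetherianRing K _
  let aBE : Algebra (K ⊗[T] B) E₁ := (jLift (K := K) β₁).toRingHom.toAlgebra
  have : IsScalarTower K (K ⊗[T] B) E₁ :=
    @IsScalarTower.of_algebraMap_eq' K (K ⊗[T] B) E₁ _ _ _ _ _ _
      (RingHom.ext fun k => ((jLift β₁).commutes k).symm)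
  have : Algebra.FiniteType (K ⊗[T] B) E₁ := Algebra.FiniteType.of_restrictScalars_finiteType K _ _
  have : Algebra.FinitePresentation (K ⊗[T] B) E₁ := Algebra.FinitePresentation.of_finiteType.1 inferInstance
  -- the last stage
  have hK : S₁.FG := hS₁
  have : Nonempty {L : Subalgebra R Λ // L.FG ∧ S₁ ≤ L} := nonempty_above hK
  have : IsDirected {L : Subalgebra R Λ // L.FG ∧ S₁ ≤ L} (· ≤ ·) := directed_above S₁
  have hΛ := RingHom.etale_algebraMap.1 ((etale_pushed_iff β₁ Λ).2 hβΛ)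
  obtain ⟨j, -, hj⟩ := IsColim.exists_etale (isColim_fg_above S₁ hK) (B := K ⊗[T] B) (C := E₁)
    inferInstance inferInstance ⟨S₁, hK, le_rfl⟩
  let L := ↥j.1
  have : IsScalarTower K L Λ := IsScalarTower.of_algebraMap_eq fun _ => rfl
  have : IsScalarTower R K L := IsScalarTower.of_algebraMap_eq fun _ => rfl
  let aTL : Algebra T L := ((algebraMap K L).comp (algebraMap T K)).toAlgebra
  have : IsScalarTower T K L := IsScalarTower.of_algebraMap_eq fun _ => rfl
  have hβL : (jLift (K := L) (bcMap K L β₁)).toRingHom.Etale :=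
    (etale_pushed_iff β₁ L).1 (RingHom.etale_algebraMap.2 hj)
  let μ : L ⊗[K] E₁ →ₐ[K] Λ ⊗[K] E₁ :=
    Algebra.TensorProduct.map ({ j.1.val.toRingHom with commutes' := fun _ => rfl } : L →ₐ[K] Λ) (AlgHom.id K E₁)
  exact ⟨{
    K := L
    finiteType := (Subalgebra.fg_iff_finiteType j.1).mp j.2.1
    towerT := IsScalarTower.of_algebraMap_eq fun t => IsScalarTower.algebraMap_apply T K Λ t
    E := L ⊗[K] E₁
    γ := bcMap K L γ₁
    β := bcMap K L β₁
    π := q.comp μ.toRingHom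
    π_alg := fun l => by
      show q (μ (l ⊗ₜ (1 : E₁))) = _
      simp only [μ, Algebra.TensorProduct.map_tmul, map_one]
      refine (hqΛ _ _).trans ?_
      show algebraMap Λ E' _ * q ((1 : Λ) ⊗ₜ[↥S₁] (1 : E₁)) = _
      rw [← Algebra.TensorProduct.one_def, map_one, mul_one]
      rfl
    π_γ := fun c => by
      show q (μ ((1 : L) ⊗ₜ γ₁ c)) = _
      simp only [μ, Algebra.TensorProduct.map_tmul, map_one]
      exact hqγ c
    π_β := fun b => by
      show q (μ ((1 : L) ⊗ₜ β₁ b)) = _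
      simp only [μ, Algebra.TensorProduct.map_tmul, map_one]
      exact hqβ b
    etale_γ := etale_jLift_baseChange γ₁ hγ₁ L
    etale_β := hβL }⟩


theorem exists_model {R Λ T C B E' : Type u} [CommRing R] [IsNoetherianRing R] [CommRing Λ]
    [Algebra R Λ] [CommRing T] [Algebra.FiniteType ℤ T] [Algebra T Λ] [CommRing C] [Algebra R C]
    [Algebra.FiniteType R C] [CommRing B] [Algebra T B] [Algebra.FiniteType T B] [CommRing E']
    [Algebra Λ E'] [Algebra (Λ ⊗[R] C) E'] [IsScalarTower Λ (Λ ⊗[R] C) E'] [Algebra (Λ ⊗[T] B) E']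
    [IsScalarTower Λ (Λ ⊗[T] B) E'] [Algebra.Etale (Λ ⊗[R] C) E'] [Algebra.Etale (Λ ⊗[T] B) E'] :
    Nonempty (Model R Λ T C B E'
      ((algebraMap (Λ ⊗[R] C) E').comp (Algebra.TensorProduct.includeRight : C →ₐ[R] Λ ⊗[R] C).toRingHom)
      ((algebraMap (Λ ⊗[T] B) E').comp (Algebra.TensorProduct.includeRight : B →ₐ[T] Λ ⊗[T] B).toRingHom)) := by
  classical
  obtain ⟨gens, hgens⟩ := (‹Algebra.FiniteType ℤ T›).out
  let S₀ : Subalgebra R Λ := Algebra.adjoin R ((algebraMap T Λ) '' (gens : Set T))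
  have hS₀ : S₀.FG := ⟨gens.image (algebraMap T Λ), by rw [Finset.coe_image]⟩
  have hTS : ∀ t, algebraMap T Λ t ∈ S₀ := by
    intro t
    have ht : t ∈ Algebra.adjoin ℤ (gens : Set T) := hgens ▸ Algebra.mem_top
    induction ht using Algebra.adjoin_induction with
    | mem x hx => exact Algebra.subset_adjoin ⟨x, hx, rfl⟩
    | algebraMap n => simp [algebraMap_int_eq]
    | add x y _ _ hx hy => rw [map_add]; exact add_mem hx hy
    | mul x y _ _ hx hy => rw [map_mul]; exact mul_mem hx hy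
  obtain ⟨H, hH, hSH, E₀, iE₀, aM₀, aH₀, hT₀, e, hE₀, heC⟩ := exists_etale_model C E' S₀ hS₀
  let σH : T →+* ↥H := (algebraMap T Λ).codRestrict H.toSubsemiring fun t => hSH (hTS t)
  let aTH : Algebra T ↥H := σH.toAlgebra
  have : IsScalarTower T ↥H Λ := IsScalarTower.of_algebraMap_eq fun _ => rfl
  have : IsNoetherianRing T := Algebra.FiniteType.isNoetherianRing ℤ T
  have : Algebra.FinitePresentation T B := Algebra.FinitePresentation.of_finiteType.1 inferInstance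
  let F₀ : B →ₐ[T] Λ ⊗[↥H] E₀ :=
    { (e.symm.toRingEquiv.toRingHom.comp ((algebraMap (Λ ⊗[T] B) E').comp
        (Algebra.TensorProduct.includeRight : B →ₐ[T] Λ ⊗[T] B).toRingHom)) with
      commutes' := fun t => by
        show e.symm (algebraMap (Λ ⊗[T] B) E' ((1 : Λ) ⊗ₜ algebraMap T B t)) = _
        have h1 : (1 : Λ) ⊗ₜ[T] algebraMap T B t = algebraMap Λ (Λ ⊗[T] B) (algebraMap T Λ t) :=
          ((Algebra.TensorProduct.includeRight : B →ₐ[T] Λ ⊗[T] B).commutes t).trans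
            (IsScalarTower.algebraMap_apply T Λ (Λ ⊗[T] B) t)
        rw [h1, ← IsScalarTower.algebraMap_apply Λ (Λ ⊗[T] B) E', AlgEquiv.commutes,
          ← IsScalarTower.algebraMap_apply T Λ] }
  have : IsScalarTower T ↥H (Λ ⊗[↥H] E₀) :=
    @IsScalarTower.of_algebraMap_eq' T ↥H (Λ ⊗[↥H] E₀) _ _ _ _ _ _ rfl
  let F : ↥H ⊗[T] B →ₐ[↥H] Λ ⊗[↥H] E₀ :=
    Algebra.TensorProduct.lift (Algebra.ofId _ _) F₀ fun _ _ => Commute.all _ _
  have : Nonempty {K : Subalgebra R Λ // K.FG ∧ H ≤ K} := nonempty_above hH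
  have : IsDirected {K : Subalgebra R Λ // K.FG ∧ H ≤ K} (· ≤ ·) := directed_above H
  obtain ⟨i, Fi, hFi⟩ := exists_lift_algHom (isColim_fg_above H hH) (M := E₀) F
  -- the stage `K`
  let K := ↥i.1
  have hTK : IsScalarTower ↥H K Λ := IsScalarTower.of_algebraMap_eq fun _ => rfl
  have hRK : IsScalarTower R ↥H K := IsScalarTower.of_algebraMap_eq fun _ => rfl
  let aTK : Algebra T K := ((algebraMap ↥H K).comp σH).toAlgebra
  have : IsScalarTower T ↥H K := IsScalarTower.of_algebraMap_eq fun _ => rfl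
  have : IsScalarTower T K Λ := IsScalarTower.of_algebraMap_eq fun _ => rfl
  let aRE₀ : Algebra R E₀ := ((algebraMap ↥H E₀).comp (algebraMap R ↥H)).toAlgebra
  have : IsScalarTower R ↥H E₀ := IsScalarTower.of_algebraMap_eq fun _ => rfl
  have : IsScalarTower R (↥H ⊗[R] C) E₀ :=
    @IsScalarTower.of_algebraMap_eq' R (↥H ⊗[R] C) E₀ _ _ _ _ _ _ (RingHom.ext fun r =>
      IsScalarTower.algebraMap_apply ↥H (↥H ⊗[R] C) E₀ (algebraMap R ↥H r))
  let γ₀ : C →ₐ[R] E₀ := (IsScalarTower.toAlgHom R (↥H ⊗[R] C) E₀).comp Algebra.TensorProduct.includeRight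
  have hγ₀ : (jLift (K := ↥H) γ₀).toRingHom = algebraMap (↥H ⊗[R] C) E₀ := RingHom.ext fun z => by
    induction z using TensorProduct.induction_on with
    | zero => simp
    | tmul h c =>
      show jLift γ₀ (h ⊗ₜ c) = _
      rw [jLift_tmul, IsScalarTower.algebraMap_apply ↥H (↥H ⊗[R] C) E₀]
      show _ * algebraMap (↥H ⊗[R] C) E₀ ((1 : ↥H) ⊗ₜ c) = _
      rw [← map_mul, Algebra.TensorProduct.algebraMap_apply, Algebra.TensorProduct.tmul_mul_tmul,
        mul_one, one_mul]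
      rfl
    | add a b ha hb => rw [map_add, map_add, ha, hb]
  let E₁ := K ⊗[↥H] E₀
  have : IsScalarTower T ↥H E₁ := @IsScalarTower.of_algebraMap_eq' T ↥H E₁ _ _ _ _ _ _ rfl
  let γ₁ : C →ₐ[R] E₁ := bcMap ↥H K γ₀
  let β₁ : B →ₐ[T] E₁ :=
    (Fi.restrictScalars T).comp (Algebra.TensorProduct.includeRight : B →ₐ[T] ↥H ⊗[T] B)
  have hγ₁ : (jLift (K := K) γ₁).toRingHom.Etale :=
    etale_jLift_baseChange γ₀ (by rw [hγ₀]; exact RingHom.etale_algebraMap.2 hE₀) K
  -- the map to `E'`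
  let c₂ := Algebra.TensorProduct.cancelBaseChange ↥H K Λ Λ E₀
  let q : Λ ⊗[K] E₁ →+* E' := e.toRingEquiv.toRingHom.comp c₂.toRingEquiv.toRingHom
  have hq : Function.Bijective q := e.bijective.comp c₂.bijective
  have hqΛ : ∀ (l : Λ) (z : E₁), q (l ⊗ₜ[K] z) = algebraMap Λ E' l * q ((1 : Λ) ⊗ₜ[K] z) := by
    intro l z
    have h1 : l ⊗ₜ[K] z = (algebraMap Λ (Λ ⊗[K] E₁) l) * ((1 : Λ) ⊗ₜ[K] z) := by simp
    rw [h1, map_mul]
    congr 1
    show e (c₂ (algebraMap Λ (Λ ⊗[K] E₁) l)) = _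
    rw [AlgEquiv.commutes, AlgEquiv.commutes]
  have hc₂ : ∀ z : E₁, c₂ ((1 : Λ) ⊗ₜ[K] z) = Algebra.TensorProduct.map
      ({ i.1.val.toRingHom with commutes' := fun _ => rfl } : K →ₐ[↥H] Λ) (AlgHom.id ↥H E₀) z := by
    intro z
    induction z using TensorProduct.induction_on with
    | zero => simp
    | tmul k x =>
      rw [Algebra.TensorProduct.cancelBaseChange_tmul, Algebra.TensorProduct.map_tmul, Algebra.smul_def, mul_one]
      rfl
    | add a b ha hb => simp only [TensorProduct.tmul_add, map_add, ha, hb]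
  have hqβ : ∀ b, q ((1 : Λ) ⊗ₜ[K] β₁ b) = algebraMap (Λ ⊗[T] B) E' ((1 : Λ) ⊗ₜ b) := by
    intro b
    show e (c₂ ((1 : Λ) ⊗ₜ[K] Fi ((1 : ↥H) ⊗ₜ b))) = _
    rw [hc₂, ← AlgHom.comp_apply]
    erw [DFunLike.congr_fun hFi ((1 : ↥H) ⊗ₜ b)]
    show e (Algebra.TensorProduct.lift _ F₀ _ ((1 : ↥H) ⊗ₜ b)) = _
    rw [Algebra.TensorProduct.lift_tmul, map_one, one_mul]
    exact e.apply_symm_apply _
  have hqγ : ∀ c, q ((1 : Λ) ⊗ₜ[K] γ₁ c) = algebraMap (Λ ⊗[R] C) E' ((1 : Λ) ⊗ₜ c) := by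
    intro c
    show e (c₂ ((1 : Λ) ⊗ₜ[K] ((1 : K) ⊗ₜ[↥H] γ₀ c))) = _
    rw [Algebra.TensorProduct.cancelBaseChange_tmul, one_smul]
    exact heC c
  have : Algebra.FiniteType R ↥H := (Subalgebra.fg_iff_finiteType H).mp hH
  have : Algebra.FinitePresentation (↥H ⊗[R] C) E₀ := hE₀.finitePresentation
  have : Algebra.FiniteType ↥H E₀ :=
    Algebra.FiniteType.trans (S := ↥H ⊗[R] C) inferInstance inferInstance
  exact exists_model_of_stage i.1 i.2.1 γ₁ β₁ hγ₁ q hq hqΛ hqβ hqγ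

end Groth.Agent.Misc12.EtNbhdApprox
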