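import Groth.Agent.Misc12.EtNbhdApprox.Chart
import Mathlib.AlgebraicGeometry.PullbackCarrier

/-!
Affine charts of base changes and residue field criteria.
-/

set_option autoImplicit false

universe u

open AlgebraicGeometry CategoryTheory Limits IsLocalRing
open scoped TensorProduct

namespace Groth.Agent.Misc12.EtNbhdApprox

/-- The residue extension of a morphism out of an affine scheme, tested on a map to a field. -/
theorem bijective_residueFieldMap_of_closure {X : Scheme.{u}} {W : X.Opens} (hW : IsAffineOpen W)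
    {E : CommRingCat.{u}} (γ : Γ(X, W) ⟶ E) (u : Spec E) (hu : chartHom hW γ u ∈ W)
    {F : Type u} [Field F] (χ : E →+* F) (hχ : u.asIdeal = RingHom.ker χ)
    (hF : Subfield.closure (Set.range (χ.comp γ.hom)) = ⊤) :
    Function.Bijective ((chartHom hW γ).residueFieldMap u) := by
  refine bijective_residueFieldMap _ _ fun z => ?_
  let : Algebra E ((Spec E).presheaf.stalk u) := (toStk E u).toAlgebra
  have : IsLocalization.AtPrime ((Spec E).presheaf.stalk u) u.asIdeal := isLocalization_toStk E u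
  have hχu : ∀ t : u.asIdeal.primeCompl, IsUnit (χ t) := fun t =>
    isUnit_iff_ne_zero.2 fun h => t.2 (hχ.ge (RingHom.mem_ker.2 h))
  let θ : (Spec E).presheaf.stalk u →+* F := IsLocalization.lift hχu
  have hθ : ∀ x, θ (toStk E u x) = χ x := IsLocalization.lift_eq hχu
  let ε := ((chartHom hW γ).stalkMap u).hom
  have hker : ∀ w, θ w = 0 → w ∈ maximalIdeal ((Spec E).presheaf.stalk u) := fun w hw => by
    rw [mem_maximalIdeal, mem_nonunits_iff]
    exact fun h => (h.map θ).ne_zero hw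
  let G : Subfield F :=
    { (θ.comp ε).range with
      inv_mem' := by
        rintro _ ⟨a, rfl⟩
        by_cases h : θ (ε a) = 0
        · exact ⟨0, by rw [map_zero, RingHom.comp_apply, h, inv_zero]⟩
        · have ha : IsUnit a := by
            by_contra ha
            have h1 := stalkMap_mem (chartHom hW γ) u ((mem_maximalIdeal a).2 ha)
            obtain ⟨⟨x, t⟩, ht⟩ := IsLocalization.surj u.asIdeal.primeCompl (ε a)
            have hx : x ∈ u.asIdeal :=
              (IsLocalization.AtPrime.to_map_mem_maximal_iff _ u.asIdeal x).1 (ht ▸ Ideal.mul_mem_right _ _ h1)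
            have h2 := congrArg θ ht
            rw [map_mul] at h2
            change θ (ε a) * θ (toStk E u t) = θ (toStk E u x) at h2
            rw [hθ, hθ, show χ x = 0 by rw [hχ] at hx; exact hx] at h2
            exact (mul_eq_zero.1 h2).elim h fun h3 => t.2 (hχ.ge (RingHom.mem_ker.2 h3))
          obtain ⟨b, hb⟩ := ha.exists_right_inv
          refine ⟨b, (inv_eq_of_mul_eq_one_right ?_).symm⟩
          rw [← map_mul, hb, map_one] }
  have hcl : Subfield.closure (Set.range (χ.comp γ.hom)) ≤ G := by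
    refine Subfield.closure_le.2 ?_
    rintro _ ⟨c, rfl⟩
    refine ⟨X.presheaf.germ W _ hu c, ?_⟩
    have h := ConcreteCategory.congr_hom (germ_stalkMap_chartHom hW γ u hu) c
    show θ (ε (X.presheaf.germ W _ hu c)) = χ (γ c)
    rw [← hθ]
    exact congrArg θ h
  obtain ⟨a, ha⟩ := hcl (hF ▸ Subfield.mem_top (θ z))
  refine ⟨a, hker _ ?_⟩
  rw [map_sub, sub_eq_zero]
  exact ha.symm

/-- The affine chart of a base change given by rings. -/
theorem exists_tensor_chart {Y T : Scheme.{u}} (q : Y ⟶ T) {T₀ : T.Opens} (hT₀ : IsAffineOpen T₀)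
    {Y₀ : Y.Opens} (hY₀ : IsAffineOpen Y₀) (hYT : Y₀ ≤ q ⁻¹ᵁ T₀) (A : Type u) [CommRing A]
    [Algebra Γ(T, T₀) A] [Algebra Γ(T, T₀) Γ(Y, Y₀)]
    (hB : algebraMap Γ(T, T₀) Γ(Y, Y₀) = (q.appLE T₀ Y₀ hYT).hom)
    (f : Spec (CommRingCat.of A) ⟶ T)
    (hf : f = chartHom hT₀ (CommRingCat.ofHom (algebraMap Γ(T, T₀) A))) :
    ∃ j : Spec (CommRingCat.of (A ⊗[Γ(T, T₀)] Γ(Y, Y₀))) ⟶ pullback q f, IsOpenImmersion j ∧
      j ≫ pullback.fst q f = chartHom hY₀ (CommRingCat.ofHom
        (Algebra.TensorProduct.includeRight (R := Γ(T, T₀)) (A := A) (B := Γ(Y, Y₀))).toRingHom) ∧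
      j ≫ pullback.snd q f = Spec.map (CommRingCat.ofHom
        (Algebra.TensorProduct.includeLeftRingHom (R := Γ(T, T₀)) (A := A) (B := Γ(Y, Y₀)))) ∧
      Set.range j = pullback.fst q f ⁻¹' (Y₀ : Set Y) := by
  let i := (pullbackSpecIso Γ(T, T₀) Γ(Y, Y₀) A).inv
  let c : Spec (CommRingCat.of (A ⊗[Γ(T, T₀)] Γ(Y, Y₀))) ⟶
      Spec (CommRingCat.of (Γ(Y, Y₀) ⊗[Γ(T, T₀)] A)) :=
    Spec.map (CommRingCat.ofHom (Algebra.TensorProduct.comm Γ(T, T₀) Γ(Y, Y₀) A).toRingEquiv.toRingHom)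
  have e₁ : Spec.map (CommRingCat.ofHom (algebraMap Γ(T, T₀) Γ(Y, Y₀))) ≫ hT₀.fromSpec =
      hY₀.fromSpec ≫ q := by
    rw [hB]
    exact IsAffineOpen.SpecMap_appLE_fromSpec q hT₀ hY₀ hYT
  have e₂ : Spec.map (CommRingCat.ofHom (algebraMap Γ(T, T₀) A)) ≫ hT₀.fromSpec = 𝟙 _ ≫ f := by
    rw [Category.id_comp, hf]; rfl
  let m := pullback.map (Spec.map (CommRingCat.ofHom (algebraMap Γ(T, T₀) Γ(Y, Y₀))))
    (Spec.map (CommRingCat.ofHom (algebraMap Γ(T, T₀) A))) q f hY₀.fromSpec (𝟙 _) hT₀.fromSpec e₁ e₂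
  have : IsIso (CommRingCat.ofHom (Algebra.TensorProduct.comm Γ(T, T₀) Γ(Y, Y₀) A).toRingEquiv.toRingHom) :=
    (Algebra.TensorProduct.comm Γ(T, T₀) Γ(Y, Y₀) A).toRingEquiv.toCommRingCatIso.isIso_hom
  refine ⟨c ≫ i ≫ m, inferInstance, ?_, ?_, ?_⟩
  · simp only [m, i, Category.assoc, pullback.lift_fst, pullbackSpecIso_inv_fst_assoc]
    rw [← Spec.map_comp_assoc]
    rfl
  · simp only [m, i, Category.assoc, pullback.lift_snd, Category.comp_id]
    simp only [c, pullbackSpecIso_inv_snd]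
    rw [← Spec.map_comp]
    congr 1
  · have h1 : Set.range (c ≫ i ≫ m) = Set.range m := by
      have hs : Function.Surjective (c ≫ i) := (c ≫ i).homeomorph.surjective
      rw [← Category.assoc, show ⇑((c ≫ i) ≫ m) = ⇑m ∘ ⇑(c ≫ i) from
        funext fun z => Scheme.Hom.comp_apply _ _ z, hs.range_comp]
    rw [h1, Scheme.Pullback.range_map, hY₀.range_fromSpec]
    simp

end Groth.Agent.Misc12.EtNbhdApprox
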