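import Groth.Agent.Misc12.EtNbhdApprox.Upstairs
import Groth.Agent.Misc12.EtNbhdApprox.Model
import Groth.Agent.Misc12.EtNbhdApprox.TensorChart
import Groth.Agent.Misc12.EtNbhdApprox.Approx

/-!
Matching étale neighbourhoods of a point and of a point of a completed base change.
-/

set_option autoImplicit false

universe u

open AlgebraicGeometry CategoryTheory Limits IsLocalRing
open scoped TensorProduct

namespace Groth.Agent.Misc12.EtNbhdApprox

theorem stalkMap_specMap_apply {A A' : CommRingCat.{u}} {Z : Scheme.{u}} (g : Spec A' ⟶ Z) (h : Z ⟶ Spec A)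
    (κ : A ⟶ A') (hgh : g ≫ h = Spec.map κ) (u : Spec A') (l : A) :
    (g.stalkMap u).hom ((h.stalkMap (g u)).hom
      ((Spec A).presheaf.germ ⊤ (h (g u)) trivial ((Scheme.ΓSpecIso A).inv l))) = toStk A' u (κ l) := by
  rw [Scheme.Hom.germ_stalkMap_apply]
  erw [Scheme.Hom.germ_stalkMap_apply]
  have h1 : (g ≫ h).appTop = (Spec.map κ).appTop := by rw [hgh]
  have h2 : g.appTop (h.appTop ((Scheme.ΓSpecIso A).inv l)) = (Scheme.ΓSpecIso A').inv (κ l) := by
    rw [← CommRingCat.comp_apply, ← Scheme.Hom.comp_appTop, h1, ← CommRingCat.comp_apply, ← CommRingCat.comp_apply,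
      Scheme.ΓSpecIso_inv_naturality]
  exact congrArg ((Spec A').presheaf.germ ⊤ u trivial) h2

theorem closure_residue {C L : Type u} [CommRing C] [CommRing L] [IsLocalRing L] [Algebra C L]
    (P : Ideal C) [P.IsPrime] [IsLocalization.AtPrime L P] :
    Subfield.closure (Set.range ((residue L).comp (algebraMap C L))) = ⊤ := by
  refine eq_top_iff.2 fun z _ => ?_
  obtain ⟨l, rfl⟩ := residue_surjective z
  obtain ⟨⟨c, s⟩, hcs⟩ := IsLocalization.surj P.primeCompl l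
  have hs : residue L (algebraMap C L s) ≠ 0 := fun h =>
    (mem_maximalIdeal _).1 ((residue_eq_zero_iff _).1 h) (IsLocalization.map_units L s)
  rw [show residue L l = residue L (algebraMap C L c) / residue L (algebraMap C L s) by
    rw [eq_div_iff hs, ← map_mul, hcs]]
  exact div_mem (Subfield.subset_closure ⟨c, rfl⟩) (Subfield.subset_closure ⟨s, rfl⟩)

theorem bijective_comp_openImmersion {U' U X : Scheme.{u}} (e : U' ⟶ U) (j : U ⟶ X) (u' : U')
    [IsOpenImmersion j] (h : Function.Bijective (e.residueFieldMap u')) :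
    Function.Bijective ((e ≫ j).residueFieldMap u') := by
  rw [Scheme.residueFieldMap_comp]
  exact h.comp ((ConcreteCategory.isIso_iff_bijective _).1 inferInstance :
    Function.Bijective (j.residueFieldMap (e u')))

theorem closure_map_le {R F G : Type u} [CommRing R] [Field F] [Field G] (h : R →+* F)
    (hh : Subfield.closure (Set.range h) = ⊤) (κ : F →+* G) (U : Subfield G) (hU : ∀ r, κ (h r) ∈ U)
    (c : F) : κ c ∈ U := by
  have hc : c ∈ Subfield.closure (Set.range h) := by rw [hh]; exact Subfield.mem_top c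
  exact (Subfield.closure_le (t := U.comap κ)).2 (by rintro _ ⟨r, rfl⟩; exact hU r) hc

set_option maxHeartbeats 1000000 in
/-- The étale algebras below. -/
theorem exists_downstairs {R LS L T C B E' : Type u} [CommRing R] [IsNoetherianRing R] [CommRing LS]
    [IsLocalRing LS] [IsNoetherianRing LS] [Algebra R LS] (Q : Ideal R) [Q.IsPrime]
    [IsLocalization.AtPrime LS Q] (hG : CAlg.IsGRing LS)
    [CommRing T] [Algebra.FiniteType ℤ T] [Algebra T (Cpl LS)]
    [CommRing C] [Algebra R C] [Algebra.FiniteType R C] (P : Ideal C) [P.IsPrime]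
    [CommRing L] [IsLocalRing L] [Algebra C L] [IsLocalization.AtPrime L P]
    [CommRing B] [Algebra T B] [Algebra.FiniteType T B]
    [CommRing E'] [Algebra (Cpl LS) E'] [Algebra (Cpl LS ⊗[R] C) E'] [Algebra (Cpl LS ⊗[T] B) E']
    [IsScalarTower (Cpl LS) (Cpl LS ⊗[R] C) E'] [IsScalarTower (Cpl LS) (Cpl LS ⊗[T] B) E']
    [Algebra.Etale (Cpl LS ⊗[R] C) E'] [Algebra.Etale (Cpl LS ⊗[T] B) E']
    (ε : LS →+* L) [IsLocalHom ε] (χ : E' →+* ResidueField L) (Q' : Ideal (Cpl LS ⊗[T] B))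
    (hχC : ∀ c, χ (algebraMap (Cpl LS ⊗[R] C) E' ((1 : Cpl LS) ⊗ₜ c)) = residue L (algebraMap C L c))
    (hχS : ∀ a, χ (algebraMap (Cpl LS) E' (algebraMap LS (Cpl LS) a)) = residue L (ε a))
    (hχQ : ∀ z, χ (algebraMap (Cpl LS ⊗[T] B) E' z) = 0 ↔ z ∈ Q')
    (hχsurj : ∀ z, ∃ b s, s ∉ Q' ∧
      z * χ (algebraMap (Cpl LS ⊗[T] B) E' s) = χ (algebraMap (Cpl LS ⊗[T] B) E' b)) :
    ∃ (ES : Type u) (_ : CommRing ES) (_ : Algebra R ES) (_ : Algebra T ES) (ν : ES →ₐ[R] ResidueField LS)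
      (E'' : Type u) (_ : CommRing E'') (_ : Algebra ES E'') (γ : C →+* E'') (jB : ES ⊗[T] B →+* E'')
      (χ' : E'' →+* ResidueField L),
      Algebra.Etale R ES ∧ γ.Etale ∧ jB.Etale ∧
      (∀ r, γ (algebraMap R C r) = algebraMap ES E'' (algebraMap R ES r)) ∧
      (∀ s, jB (s ⊗ₜ 1) = algebraMap ES E'' s) ∧
      (∀ t, ν (algebraMap T ES t) = resCpl LS (algebraMap T (Cpl LS) t)) ∧
      (∀ c, χ' (γ c) = residue L (algebraMap C L c)) ∧
      (∀ s, χ' (algebraMap ES E'' s) = ResidueField.map ε (ν s)) ∧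
      (∀ b, χ' (jB ((1 : ES) ⊗ₜ b)) = 0 ↔ (1 : Cpl LS) ⊗ₜ[T] b ∈ Q') ∧
      Subfield.closure (Set.range (χ'.comp jB)) = ⊤ := by
  let Λ := Cpl LS
  let κ : ResidueField LS →+* ResidueField L := ResidueField.map ε
  have hκ : ∀ a, κ (residue _ a) = residue _ (ε a) := fun a => rfl
  have hεm : ∀ a ∈ maximalIdeal LS, ε a ∈ maximalIdeal L := fun a ha => by
    rw [mem_maximalIdeal, mem_nonunits_iff] at ha ⊢
    exact fun hu => ha (isUnit_of_map_unit ε a hu)
  have hχΛ : ∀ l : Λ, χ (algebraMap Λ E' l) = κ (resCpl LS l) := by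
    intro l
    obtain ⟨a, ha⟩ := exists_ev_eq LS 1 l
    rw [← ev_algebraMap _ 1 a, ← sub_eq_zero, ← map_sub, ev_eq_zero_iff, pow_one] at ha
    have h1 : (maximalIdeal Λ) ≤ RingHom.ker (χ.comp (algebraMap Λ E')) := by
      rw [AdicCompletion.maximalIdeal_eq_map]
      refine Ideal.map_le_iff_le_comap.2 fun b hb => ?_
      show χ (algebraMap Λ E' (algebraMap _ Λ b)) = 0
      rw [hχS, residue_eq_zero_iff]
      exact hεm b hb
    have h2 : χ (algebraMap Λ E' (l - algebraMap _ Λ a)) = 0 := h1 ha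
    rw [map_sub, map_sub, sub_eq_zero, hχS] at h2
    have h3 := (resCpl_eq_zero _).2 ha
    rw [map_sub, sub_eq_zero, resCpl_algebraMap] at h3
    rw [h2, h3, hκ]
  obtain ⟨Mo⟩ := exists_model (R := R) (Λ := Λ) (T := T) (C := C) (B := B) (E' := E')
  -- the small étale algebras
  have := Mo.finiteType
  obtain ⟨ES, _, _, g, ν, hES, hν⟩ := exists_etale_section Q hG Mo.K (IsScalarTower.toAlgHom R Mo.K Λ)
  let : Algebra Mo.K ES := g.toRingHom.toAlgebra
  have : IsScalarTower R Mo.K ES := IsScalarTower.of_algebraMap_eq fun r => (g.commutes r).symm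
  let : Algebra T ES := (g.toRingHom.comp (algebraMap T Mo.K)).toAlgebra
  have : IsScalarTower T Mo.K ES := IsScalarTower.of_algebraMap_eq fun _ => rfl
  let : Algebra Mo.K (ResidueField L) :=
    (κ.comp ((resCpl _).comp (algebraMap Mo.K Λ))).toAlgebra
  let ES' := ES ⊗[Mo.K] Mo.E
  let cS : ES →ₐ[Mo.K] ResidueField L :=
    { κ.comp ν.toRingHom with
      commutes' := fun k => congrArg κ (hν k) }
  let cE : Mo.E →ₐ[Mo.K] ResidueField L :=
    { χ.comp Mo.π with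
      commutes' := fun k => by
        show χ (Mo.π (algebraMap Mo.K Mo.E k)) = _
        rw [Mo.π_alg, hχΛ]
        rfl }
  let χ' : ES' →ₐ[Mo.K] ResidueField L :=
    Algebra.TensorProduct.lift cS cE fun _ _ => Commute.all _ _
  have hχ'S : ∀ s : ES, χ' (s ⊗ₜ 1) = κ (ν s) := fun s => by
    refine (Algebra.TensorProduct.lift_tmul _ _ _ _ _).trans ?_
    rw [map_one, mul_one]
    rfl
  have hχ'E : ∀ z : Mo.E, χ' ((1 : ES) ⊗ₜ z) = χ (Mo.π z) := fun z => by
    refine (Algebra.TensorProduct.lift_tmul _ _ _ _ _).trans ?_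
    rw [map_one, one_mul]
    rfl
  have hχC' : ∀ c, χ' (bcMap Mo.K ES Mo.γ c) = residue L (algebraMap C L c) := fun c => by
    rw [bcMap_apply, hχ'E, Mo.π_γ]
    exact hχC c
  let aS : Algebra ES ES' := Algebra.TensorProduct.leftAlgebra
  let jB : ES ⊗[T] B →+* ES' := (jLift (K := ES) (bcMap Mo.K ES Mo.β)).toRingHom
  have hjl : ∀ s, jB (s ⊗ₜ 1) = algebraMap ES ES' s := fun s => by
    show jLift (bcMap Mo.K ES Mo.β) (s ⊗ₜ (1 : B)) = _
    rw [jLift_tmul, map_one, mul_one]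
  have hjr : ∀ b, jB ((1 : ES) ⊗ₜ b) = (1 : ES) ⊗ₜ Mo.β b := fun b => by
    show jLift (bcMap Mo.K ES Mo.β) _ = _
    rw [jLift_tmul, map_one, one_mul]
    rfl
  have hjβ : ∀ b, χ' (jB ((1 : ES) ⊗ₜ b)) = χ (algebraMap (Λ ⊗[T] B) E' ((1 : Λ) ⊗ₜ b)) := fun b => by
    rw [hjr, hχ'E, Mo.π_β]
    rfl
  refine ⟨ES, inferInstance, inferInstance, inferInstance, ν, ES', inferInstance, aS,
    (bcMap Mo.K ES Mo.γ).toRingHom, jB, χ'.toRingHom, hES, ?_, etale_jLift_baseChange Mo.β Mo.etale_β ES,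
    fun r => (bcMap Mo.K ES Mo.γ).commutes r, hjl, fun t => (hν _).trans ?_, hχC', hχ'S, fun b => ?_, ?_⟩
  · have h1 : (bcMap Mo.K ES Mo.γ).toRingHom =
        (jLift (K := ES) (bcMap Mo.K ES Mo.γ)).toRingHom.comp
          (Algebra.TensorProduct.includeRight : C →ₐ[R] ES ⊗[R] C).toRingHom :=
      RingHom.ext fun c => by
        show _ = jLift _ ((1 : ES) ⊗ₜ c)
        rw [jLift_tmul, map_one, one_mul]
        rfl
    rw [h1]
    refine RingHom.Etale.stableUnderComposition _ _ ?_ (etale_jLift_baseChange Mo.γ Mo.etale_γ ES)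
    have h2 : (Algebra.TensorProduct.includeRight : C →ₐ[R] ES ⊗[R] C).toRingHom =
        (Algebra.TensorProduct.comm R C ES).toRingEquiv.toRingHom.comp (algebraMap C (C ⊗[R] ES)) :=
      RingHom.ext fun c => by simp [Algebra.TensorProduct.algebraMap_apply]
    rw [h2]
    have : Algebra.Etale R ES := hES
    exact RingHom.Etale.stableUnderComposition _ _ (RingHom.etale_algebraMap.2 inferInstance)
      (RingHom.Etale.of_bijective (Algebra.TensorProduct.comm R C ES).bijective)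
  · exact congrArg (resCpl LS) (IsScalarTower.algebraMap_apply T Mo.K Λ t).symm
  · show χ' (jB _) = 0 ↔ _
    rw [hjβ, hχQ]
  · let U := Subfield.closure (Set.range (χ'.toRingHom.comp jB))
    have hsub : ∀ z, χ' (jB z) ∈ U := fun z => Subfield.subset_closure ⟨z, rfl⟩
    have hκU : ∀ c, κ c ∈ U := closure_map_le _ (closure_residue Q) κ U fun r => by
      have h1 : (residue LS).comp (algebraMap R LS) r = ν (algebraMap R ES r) := (ν.commutes r).symm
      rw [h1, ← hχ'S]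
      have h2 := hsub (algebraMap R ES r ⊗ₜ 1)
      rwa [hjl] at h2
    have hθ : ∀ z : Λ ⊗[T] B, χ (algebraMap (Λ ⊗[T] B) E' z) ∈ U := by
      intro z
      induction z using TensorProduct.induction_on with
      | zero => rw [map_zero, map_zero]; exact zero_mem _
      | tmul l bb =>
        rw [show (l ⊗ₜ[T] bb : Λ ⊗[T] B) = algebraMap Λ _ l * ((1 : Λ) ⊗ₜ bb) by simp,
          map_mul, map_mul, ← IsScalarTower.algebraMap_apply, hχΛ, ← hjβ]
        exact mul_mem (hκU _) (hsub _)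
      | add a b ha hb => rw [map_add, map_add]; exact add_mem ha hb
    refine eq_top_iff.2 fun z _ => ?_
    obtain ⟨bb, ss, hss, hz⟩ := hχsurj z
    have hne : χ (algebraMap (Λ ⊗[T] B) E' ss) ≠ 0 := fun h => hss ((hχQ ss).1 h)
    rw [show z = χ (algebraMap (Λ ⊗[T] B) E' bb) / χ (algebraMap (Λ ⊗[T] B) E' ss) by
      rw [eq_div_iff hne, hz]]
    exact div_mem (hθ bb) (hθ ss)

set_option maxHeartbeats 1000000 in
/-- Étale neighbourhoods matching a completed base change. -/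
theorem exists_matching {X Y S T : Scheme.{u}} [IsLocallyNoetherian S]
    (p : X ⟶ S) (q : Y ⟶ T) [LocallyOfFiniteType p] [LocallyOfFiniteType q]
    [LocallyOfFiniteType (specULiftZIsTerminal.from T)]
    (x : X) (hG : CAlg.IsGRing (S.presheaf.stalk (p x))) (y : Y)
    (σ : T.presheaf.stalk (q y) →+* Cpl (S.presheaf.stalk (p x))) [IsLocalHom σ]
    (yσ : ↑(pullback q (Spec.map (CommRingCat.ofHom σ) ≫ T.fromSpecStalk (q y))))
    (hyσ : (pullback.fst q (Spec.map (CommRingCat.ofHom σ) ≫ T.fromSpecStalk (q y))) yσ = y)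
    (φ : Cpl (X.presheaf.stalk x) ≃+*
      Cpl ((pullback q (Spec.map (CommRingCat.ofHom σ) ≫ T.fromSpecStalk (q y))).presheaf.stalk yσ))
    (hφ : φ.toRingHom.comp ((algebraMap (X.presheaf.stalk x) (Cpl (X.presheaf.stalk x))).comp (p.stalkMap x).hom) =
      ((algebraMap _ (Cpl ((pullback q (Spec.map (CommRingCat.ofHom σ) ≫ T.fromSpecStalk (q y))).presheaf.stalk yσ))).comp
        ((pullback.snd q (Spec.map (CommRingCat.ofHom σ) ≫ T.fromSpecStalk (q y))).stalkMap yσ).hom).comp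
        ((((Spec (CommRingCat.of (Cpl (S.presheaf.stalk (p x))))).presheaf.germ
            ⊤ ((pullback.snd q (Spec.map (CommRingCat.ofHom σ) ≫ T.fromSpecStalk (q y))) yσ) trivial).hom.comp
          ((Scheme.ΓSpecIso (CommRingCat.of (Cpl (S.presheaf.stalk (p x))))).inv.hom.comp
            (algebraMap (S.presheaf.stalk (p x)) (Cpl (S.presheaf.stalk (p x)))))))) :
    ∃ (V : Scheme.{u}) (v : V) (e : V ⟶ S) (τ : V ⟶ T) (W : Scheme.{u}) (w : W) (a : W ⟶ X)
      (b : W ⟶ pullback q τ),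
      Etale e ∧ e v = p x ∧ Function.Bijective (e.residueFieldMap v) ∧ τ v = q y ∧
      Etale a ∧ a w = x ∧ Function.Bijective (a.residueFieldMap w) ∧
      a ≫ p = b ≫ pullback.snd q τ ≫ e ∧
      Etale b ∧ (pullback.fst q τ) (b w) = y ∧ (pullback.snd q τ) (b w) = v ∧
      Function.Bijective (b.residueFieldMap w) := by
  -- charts
  obtain ⟨_, ⟨V₀, hV, rfl⟩, hsV, -⟩ :=
    S.isBasis_affineOpens.exists_subset_of_mem_open (Set.mem_univ (p x)) isOpen_univ
  obtain ⟨_, ⟨W₀, hW, rfl⟩, hxW, hWV⟩ :=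
    X.isBasis_affineOpens.exists_subset_of_mem_open (show x ∈ p ⁻¹ᵁ V₀ from hsV) (p ⁻¹ᵁ V₀).isOpen
  obtain ⟨_, ⟨T₀, hT₀, rfl⟩, htT, -⟩ :=
    T.isBasis_affineOpens.exists_subset_of_mem_open (Set.mem_univ (q y)) isOpen_univ
  obtain ⟨_, ⟨Y₀, hY₀, rfl⟩, hyY, hYT⟩ :=
    Y.isBasis_affineOpens.exists_subset_of_mem_open (show y ∈ q ⁻¹ᵁ T₀ from htT) (q ⁻¹ᵁ T₀).isOpen
  change W₀ ≤ p ⁻¹ᵁ V₀ at hWV
  change Y₀ ≤ q ⁻¹ᵁ T₀ at hYT
  have : IsLocallyNoetherian X := LocallyOfFiniteType.isLocallyNoetherian p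
  have : IsNoetherianRing Γ(S, V₀) := IsLocallyNoetherian.component_noetherian ⟨V₀, hV⟩
  let algC : Algebra Γ(S, V₀) Γ(X, W₀) := (p.appLE V₀ W₀ hWV).hom.toAlgebra
  let algB : Algebra Γ(T, T₀) Γ(Y, Y₀) := (q.appLE T₀ Y₀ hYT).hom.toAlgebra
  have : Algebra.FiniteType Γ(S, V₀) Γ(X, W₀) := p.finiteType_appLE hV hW hWV
  have : Algebra.FiniteType Γ(T, T₀) Γ(Y, Y₀) := q.finiteType_appLE hT₀ hY₀ hYT
  have : Algebra.FiniteType ℤ Γ(T, T₀) := by
    have h1 := (specULiftZIsTerminal.from T).finiteType_appLE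
      (isAffineOpen_top (Spec (CommRingCat.of (ULift.{u} ℤ)))) hT₀ le_top
    have h2 := h1.comp (RingHom.FiniteType.of_surjective
      ((Scheme.ΓSpecIso (CommRingCat.of (ULift.{u} ℤ))).inv.hom.comp ULift.ringEquiv.symm.toRingHom)
      (((ConcreteCategory.bijective_of_isIso (Scheme.ΓSpecIso (CommRingCat.of (ULift.{u} ℤ))).inv).2).comp
        (show Function.Surjective (ULift.ringEquiv : ULift.{u} ℤ ≃+* ℤ).symm.toRingHom from
          (ULift.ringEquiv : ULift.{u} ℤ ≃+* ℤ).symm.surjective)))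
    rw [← RingHom.finiteType_algebraMap]
    exact (RingHom.ext_int _ (algebraMap ℤ Γ(T, T₀))) ▸ h2
  let Q := (hV.primeIdealOf ⟨p x, hsV⟩).asIdeal
  let P := (hW.primeIdealOf ⟨x, hxW⟩).asIdeal
  let : Algebra Γ(S, V₀) (S.presheaf.stalk (p x)) := S.presheaf.algebra_section_stalk ⟨p x, hsV⟩
  let : Algebra Γ(X, W₀) (X.presheaf.stalk x) := X.presheaf.algebra_section_stalk ⟨x, hxW⟩
  have : IsLocalization.AtPrime (S.presheaf.stalk (p x)) Q := hV.isLocalization_stalk ⟨p x, hsV⟩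
  have : IsLocalization.AtPrime (X.presheaf.stalk x) P := hW.isLocalization_stalk ⟨x, hxW⟩
  let Λ := Cpl (S.presheaf.stalk (p x))
  let algT : Algebra Γ(T, T₀) Λ := (σ.comp (T.presheaf.germ T₀ (q y) htT).hom).toAlgebra
  let ε := (p.stalkMap x).hom
  -- the point of the base change
  let f := Spec.map (CommRingCat.ofHom σ) ≫ T.fromSpecStalk (q y)
  have hf : f = chartHom hT₀ (CommRingCat.ofHom (algebraMap Γ(T, T₀) Λ)) := by
    simp only [f, chartHom, ← hT₀.fromSpecStalk_eq_fromSpecStalk htT, IsAffineOpen.fromSpecStalk,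
      ← Spec.map_comp_assoc]
    rfl
  obtain ⟨j, hj, hjf, hjs, hjr⟩ := exists_tensor_chart q hT₀ hY₀ hYT Λ rfl f hf
  obtain ⟨q', rfl⟩ : yσ ∈ Set.range j := by rw [hjr]; exact (hyσ ▸ hyY : _ ∈ Y₀)
  let Z := pullback q f
  have : IsIso (j.stalkMap q') := inferInstance
  let eK : (Spec (CommRingCat.of (Λ ⊗[Γ(T, T₀)] Γ(Y, Y₀)))).presheaf.stalk q' ≃+* Z.presheaf.stalk (j q') :=
    (asIso (j.stalkMap q')).commRingCatIsoToRingEquiv.symm
  let : Algebra (Λ ⊗[Γ(T, T₀)] Γ(Y, Y₀)) ((Spec (CommRingCat.of (Λ ⊗[Γ(T, T₀)] Γ(Y, Y₀)))).presheaf.stalk q') :=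
    (toStk (CommRingCat.of (Λ ⊗[Γ(T, T₀)] Γ(Y, Y₀))) q').toAlgebra
  have : IsLocalization.AtPrime ((Spec (CommRingCat.of (Λ ⊗[Γ(T, T₀)] Γ(Y, Y₀)))).presheaf.stalk q') q'.asIdeal :=
    isLocalization_toStk _ q'
  let : Algebra (Λ ⊗[Γ(T, T₀)] Γ(Y, Y₀)) (Z.presheaf.stalk (j q')) :=
    (eK.toRingHom.comp (toStk (CommRingCat.of (Λ ⊗[Γ(T, T₀)] Γ(Y, Y₀))) q')).toAlgebra
  have : IsLocalization.AtPrime (Z.presheaf.stalk (j q')) q'.asIdeal :=
    IsLocalization.isLocalization_of_algEquiv q'.asIdeal.primeCompl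
      (AlgEquiv.ofRingEquiv (f := eK) fun _ => rfl)
  have : IsNoetherianRing Λ := Groth.Agent.S0543.result (S.presheaf.stalk (p x)) (maximalIdeal _)
  have : IsNoetherianRing (Λ ⊗[Γ(T, T₀)] Γ(Y, Y₀)) := Algebra.FiniteType.isNoetherianRing Λ _
  have : IsNoetherianRing (Z.presheaf.stalk (j q')) :=
    IsLocalization.isNoetherianRing q'.asIdeal.primeCompl _ inferInstance
  have hφ' : ∀ a, φ (algebraMap (X.presheaf.stalk x) (Cpl (X.presheaf.stalk x)) (ε a)) =
      algebraMap (Z.presheaf.stalk (j q')) (Cpl (Z.presheaf.stalk (j q')))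
        (algebraMap (Λ ⊗[Γ(T, T₀)] Γ(Y, Y₀)) (Z.presheaf.stalk (j q'))
          (algebraMap (S.presheaf.stalk (p x)) Λ a ⊗ₜ 1)) := by
    intro a
    refine (RingHom.congr_fun hφ a).trans ?_
    simp only [RingHom.comp_apply]
    refine congrArg _ ?_
    apply eK.symm.injective
    rw [show algebraMap (Λ ⊗[Γ(T, T₀)] Γ(Y, Y₀)) (Z.presheaf.stalk (j q')) _ =
      eK (toStk (CommRingCat.of (Λ ⊗[Γ(T, T₀)] Γ(Y, Y₀))) q' (algebraMap (S.presheaf.stalk (p x)) Λ a ⊗ₜ 1)) from rfl,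
      eK.symm_apply_apply]
    exact stalkMap_specMap_apply j (pullback.snd q f) _ hjs q' _
  have hεR : ∀ r, ε (algebraMap Γ(S, V₀) (S.presheaf.stalk (p x)) r) =
      algebraMap Γ(X, W₀) (X.presheaf.stalk x) (algebraMap Γ(S, V₀) Γ(X, W₀) r) := fun r =>
    (appLE_germ p hWV hxW r).symm
  have hεm : ∀ a ∈ maximalIdeal (S.presheaf.stalk (p x)), ε a ∈ maximalIdeal (X.presheaf.stalk x) :=
    fun a ha => stalkMap_mem p x ha
  obtain ⟨E', _, _, _, _, _, _, χ, hE'C, hE'B, hχC, hχS, hχQ, hχsurj⟩ :=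
    exists_upstairs Q P (X.presheaf.stalk x) ε hεm hεR q'.asIdeal (Z.presheaf.stalk (j q')) φ hφ'
  have : IsLocalHom ε := inferInstanceAs (IsLocalHom (p.stalkMap x).hom)
  obtain ⟨ES, _, _, _, ν, E'', _, _, γ, jB, χ', hES, hγ, hjB, hγR, hjl, hνT, hχ'C, hχ'S, hχ'B, hcl⟩ :=
    exists_downstairs Q hG P ε χ q'.asIdeal hχC hχS hχQ hχsurj
  let v : Spec (CommRingCat.of ES) := ⟨RingHom.ker ν.toRingHom, RingHom.ker_isPrime _⟩
  let w : Spec (CommRingCat.of E'') := ⟨RingHom.ker χ', RingHom.ker_isPrime _⟩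
  let γe : Γ(S, V₀) ⟶ CommRingCat.of ES := CommRingCat.ofHom (algebraMap Γ(S, V₀) ES)
  let γτ : Γ(T, T₀) ⟶ CommRingCat.of ES := CommRingCat.ofHom (algebraMap Γ(T, T₀) ES)
  let γa : Γ(X, W₀) ⟶ CommRingCat.of E'' := CommRingCat.ofHom γ
  obtain ⟨jV, hjV, hjVf, hjVs, -⟩ := exists_tensor_chart q hT₀ hY₀ hYT ES rfl (chartHom hT₀ γτ) rfl
  let A := CommRingCat.of (ES ⊗[Γ(T, T₀)] Γ(Y, Y₀))
  let γb : Γ(Spec A, ⊤) ⟶ CommRingCat.of E'' := (Scheme.ΓSpecIso A).hom ≫ CommRingCat.ofHom jB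
  let b₀ := chartHom (isAffineOpen_top (Spec A)) γb
  have hb₀ : b₀ = Spec.map (CommRingCat.ofHom jB) := by
    rw [show b₀ = Spec.map γb ≫ (isAffineOpen_top (Spec A)).fromSpec from rfl, IsAffineOpen.fromSpec_top,
      Scheme.isoSpec_Spec_inv, Spec.map_comp, Category.assoc, ← Spec.map_comp (Scheme.ΓSpecIso A).inv,
      Iso.inv_hom_id, Spec.map_id, Category.comp_id]
  have hve : chartHom hV γe v = p x := by
    refine chartHom_apply hV γe v hsV (Ideal.ext fun r => ?_)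
    show ν (algebraMap Γ(S, V₀) ES r) = 0 ↔ r ∈ Q
    rw [ν.commutes, IsScalarTower.algebraMap_apply Γ(S, V₀) (S.presheaf.stalk (p x)) (ResidueField _),
      ResidueField.algebraMap_eq, residue_eq_zero_iff]
    exact IsLocalization.AtPrime.to_map_mem_maximal_iff _ Q r
  have hwa : chartHom hW γa w = x := by
    refine chartHom_apply hW γa w hxW (Ideal.ext fun c => ?_)
    show χ' (γ c) = 0 ↔ c ∈ P
    rw [hχ'C, residue_eq_zero_iff]
    exact IsLocalization.AtPrime.to_map_mem_maximal_iff _ P c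
  have hτv : chartHom hT₀ γτ v = q y := by
    let : Algebra Γ(T, T₀) (T.presheaf.stalk (q y)) := T.presheaf.algebra_section_stalk ⟨q y, htT⟩
    have : IsLocalization.AtPrime (T.presheaf.stalk (q y)) (hT₀.primeIdealOf ⟨q y, htT⟩).asIdeal :=
      hT₀.isLocalization_stalk ⟨q y, htT⟩
    refine chartHom_apply hT₀ γτ v htT (Ideal.ext fun t => ?_)
    show ν (algebraMap Γ(T, T₀) ES t) = 0 ↔ t ∈ (hT₀.primeIdealOf ⟨q y, htT⟩).asIdeal
    rw [hνT, resCpl_eq_zero, ← IsLocalization.AtPrime.to_map_mem_maximal_iff (T.presheaf.stalk (q y)) _ t,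
      mem_maximalIdeal, mem_maximalIdeal, mem_nonunits_iff, mem_nonunits_iff,
      show algebraMap Γ(T, T₀) Λ t = σ (T.presheaf.germ T₀ (q y) htT t) from rfl, isUnit_map_iff σ]
    rfl
  have hbs : (b₀ ≫ jV) ≫ pullback.snd q (chartHom hT₀ γτ) =
      Spec.map (CommRingCat.ofHom (algebraMap ES E'')) := by
    rw [Category.assoc, hjVs, hb₀, ← Spec.map_comp]
    exact congrArg Spec.map (CommRingCat.hom_ext (RingHom.ext hjl))
  refine ⟨Spec (CommRingCat.of ES), v, chartHom hV γe, chartHom hT₀ γτ, Spec (CommRingCat.of E''), w,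
    chartHom hW γa, b₀ ≫ jV, etale_chartHom hV γe (RingHom.etale_algebraMap.2 hES), hve, ?_, hτv,
    etale_chartHom hW γa hγ, hwa, ?_, ?_, ?_, ?_, ?_, ?_⟩
  · refine bijective_residueFieldMap_of_closure hV γe v (hve ▸ hsV) ν.toRingHom rfl ?_
    have h1 : ν.toRingHom.comp γe.hom = (residue _).comp (algebraMap Γ(S, V₀) (S.presheaf.stalk (p x))) :=
      RingHom.ext fun r => ν.commutes r
    rw [h1]
    exact closure_residue Q
  · refine bijective_residueFieldMap_of_closure hW γa w (hwa ▸ hxW) χ' rfl ?_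
    have h1 : χ'.comp γa.hom = (residue _).comp (algebraMap Γ(X, W₀) (X.presheaf.stalk x)) :=
      RingHom.ext hχ'C
    rw [h1]
    exact closure_residue P
  · rw [← Category.assoc, hbs, chartHom, chartHom, Category.assoc, ← IsAffineOpen.SpecMap_appLE_fromSpec p hV hW hWV,
      ← Spec.map_comp_assoc, ← Spec.map_comp_assoc]
    congr 2
    exact CommRingCat.hom_ext (RingHom.ext hγR)
  · have : Etale b₀ := etale_chartHom _ γb (RingHom.Etale.stableUnderComposition _ _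
      (RingHom.Etale.of_bijective (ConcreteCategory.bijective_of_isIso (Scheme.ΓSpecIso A).hom)) hjB)
    infer_instance
  · have h1 : (b₀ ≫ jV) ≫ pullback.fst q (chartHom hT₀ γτ) =
        chartHom hY₀ (CommRingCat.ofHom (jB.comp
          (Algebra.TensorProduct.includeRight (R := Γ(T, T₀)) (A := ES) (B := Γ(Y, Y₀))).toRingHom)) := by
      rw [Category.assoc, hjVf, chartHom, chartHom, hb₀, ← Spec.map_comp_assoc]
      rfl
    rw [← Scheme.Hom.comp_apply, h1]
    refine chartHom_apply hY₀ _ w hyY (Ideal.ext fun c => ?_)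
    show χ' (jB ((1 : ES) ⊗ₜ c)) = 0 ↔ _
    rw [hχ'B]
    have h2 : (hY₀.primeIdealOf ⟨y, hyY⟩) = Spec.map (CommRingCat.ofHom
        (Algebra.TensorProduct.includeRight (R := Γ(T, T₀)) (A := Λ) (B := Γ(Y, Y₀))).toRingHom) q' := by
      apply hY₀.fromSpec.isOpenEmbedding.injective
      rw [hY₀.fromSpec_primeIdealOf, ← Scheme.Hom.comp_apply]
      show y = chartHom hY₀ _ q'
      rw [← hjf, Scheme.Hom.comp_apply]
      exact hyσ.symm
    rw [h2]
    rfl
  · rw [← Scheme.Hom.comp_apply, hbs]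
    refine PrimeSpectrum.ext (Ideal.ext fun s => ?_)
    show χ' (algebraMap ES E'' s) = 0 ↔ ν s = 0
    rw [hχ'S, map_eq_zero]
  · refine bijective_comp_openImmersion b₀ jV w ?_
    refine bijective_residueFieldMap_of_closure (isAffineOpen_top (Spec A)) γb w trivial χ' rfl ?_
    rw [← hcl]
    congr 1
    refine Set.Subset.antisymm ?_ ?_
    · rintro _ ⟨c, rfl⟩; exact ⟨(Scheme.ΓSpecIso A).hom c, rfl⟩
    · rintro _ ⟨z, rfl⟩
      refine ⟨(Scheme.ΓSpecIso A).inv z, ?_⟩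
      show χ' (jB ((Scheme.ΓSpecIso A).hom ((Scheme.ΓSpecIso A).inv z))) = χ' (jB z)
      rw [← CommRingCat.comp_apply (Scheme.ΓSpecIso A).inv, Iso.inv_hom_id]
      rfl

end Groth.Agent.Misc12.EtNbhdApprox
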