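import Groth.Agent.Misc12.EtNbhdApprox.Trunc
import Groth.Agent.Calg1.Popescu.Approximation

/-!
Étale algebras with a point in a completed local ring.
-/

set_option autoImplicit false

universe u

open IsLocalRing
open scoped TensorProduct

namespace Groth.Agent.Misc12.EtNbhdApprox

section Point

variable {C E : Type u} [CommRing C] [CommRing E] [Algebra C E]
  (P : Ideal C) [P.IsPrime] (L : Type u) [CommRing L] [Algebra C L] [IsLocalRing L]
  [IsNoetherianRing L] [IsLocalization.AtPrime L P] (P' : Ideal E)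

/-- A prime with trivial residue extension, and a compatible map into the completion. -/
structure IsPoint (ψ : E →ₐ[C] Cpl L) : Prop where
  surj : ∀ x : E, ∃ r s : C, s ∉ P ∧ algebraMap C E s * x - algebraMap C E r ∈ P'
  mem : ∀ x ∈ P', ψ x ∈ maximalIdeal (Cpl L)

variable {P L P'} {ψ : E →ₐ[C] Cpl L}

variable {M : Type u} [CommRing M] [IsLocalRing M] [Algebra E M]
  (ε : L →+* M) (hM : ∀ x ∈ P', algebraMap E M x ∈ maximalIdeal M)
  (hεm : ∀ a ∈ maximalIdeal L, ε a ∈ maximalIdeal M)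
  (hεC : ∀ c, ε (algebraMap C L c) = algebraMap E M (algebraMap C E c))

include hM hεm hεC

/-- The truncations of the map into the completion compute the étale localization. -/
theorem IsPoint.cong_pow [Algebra.FormallyUnramified C E] (h : IsPoint P L P' ψ) {k : ℕ} {x : E}
    {l : L} (hl : AdicCompletion.evalₐ (maximalIdeal L) k (ψ x) = Ideal.Quotient.mk _ l) :
    algebraMap E M x - ε l ∈ maximalIdeal M ^ k := by
  rcases Nat.eq_zero_or_pos k with rfl | hk
  · simp
  let Q := M ⧸ maximalIdeal M ^ k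
  let η : L ⧸ maximalIdeal L ^ k →+* Q :=
    Ideal.quotientMap (maximalIdeal M ^ k) ε fun a ha => map_pow_le ε hεm k ha
  let : Algebra C Q := ((Ideal.Quotient.mk _).comp ((algebraMap E M).comp (algebraMap C E))).toAlgebra
  have hη : ∀ c : C, η (Ideal.Quotient.mk _ (algebraMap C L c)) = algebraMap C Q c := fun c => by
    show η (Ideal.Quotient.mk _ (algebraMap C L c)) = Ideal.Quotient.mk _ (algebraMap E M (algebraMap C E c))
    rw [← hεC]
    exact Ideal.quotientMap_mk
  let g₁ : E →ₐ[C] Q :=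
    { (Ideal.Quotient.mk (maximalIdeal M ^ k)).comp (algebraMap E M) with commutes' := fun c => rfl }
  let g₂ : E →ₐ[C] Q :=
    { η.comp ((AdicCompletion.evalₐ (maximalIdeal L) k).toRingHom.comp ψ.toRingHom) with
      commutes' := fun c => by
        show η (AdicCompletion.evalₐ (maximalIdeal L) k (ψ (algebraMap C E c))) = _
        rw [ψ.commutes, IsScalarTower.algebraMap_apply C L (Cpl L), ev_algebraMap, hη] }
  let J : Ideal Q := (maximalIdeal M).map (Ideal.Quotient.mk _)
  have hJ : IsNilpotent J := by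
    refine ⟨k, ?_⟩
    rw [← Ideal.map_pow, Ideal.zero_eq_bot, Ideal.map_quotient_self]
  have hg₁ : ∀ y ∈ P', g₁ y ∈ J := fun y hy => Ideal.mem_map_of_mem _ (hM y hy)
  have hg₂ : ∀ y ∈ P', g₂ y ∈ J := by
    intro y hy
    obtain ⟨a, ha⟩ := exists_ev_eq L k (ψ y)
    show η (AdicCompletion.evalₐ (maximalIdeal L) k (ψ y)) ∈ J
    rw [ha]
    show Ideal.quotientMap _ ε _ (Ideal.Quotient.mk _ a) ∈ J
    rw [Ideal.quotientMap_mk]
    refine Ideal.mem_map_of_mem _ (hεm a ?_)
    rw [← ev_algebraMap L k a, ← sub_eq_zero, ← map_sub, ev_eq_zero_iff] at ha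
    have h1 := Ideal.sub_mem _ (h.mem y hy) (Ideal.pow_le_self (Nat.pos_iff_ne_zero.1 hk) ha)
    rw [sub_sub_cancel] at h1
    rw [mem_maximalIdeal, mem_nonunits_iff] at h1 ⊢
    exact fun hu => h1 (hu.map _)
  have h12 : g₁ = g₂ := by
    refine Algebra.FormallyUnramified.ext J hJ fun y => ?_
    obtain ⟨r, s, hs, hr⟩ := h.surj y
    rw [Ideal.Quotient.eq]
    have h1 := sub_mem (hg₁ _ hr) (hg₂ _ hr)
    rw [map_sub, map_sub, map_mul, map_mul, g₁.commutes, g₂.commutes, g₁.commutes, g₂.commutes,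
      sub_sub_sub_cancel_right, ← mul_sub] at h1
    refine (Ideal.unit_mul_mem_iff_mem J ?_).1 h1
    rw [← hη]
    exact ((IsLocalization.map_units L (⟨s, hs⟩ : P.primeCompl)).map (Ideal.Quotient.mk _)).map η
  have h13 := DFunLike.congr_fun h12 x
  change Ideal.Quotient.mk _ (algebraMap E M x) =
    η (AdicCompletion.evalₐ (maximalIdeal L) k (ψ x)) at h13
  rw [hl] at h13
  exact Ideal.Quotient.eq.1 (h13.trans Ideal.quotientMap_mk)

omit [IsLocalization.AtPrime L P] in
theorem IsPoint.exists_sub_mem_of_isLocalization [P'.IsPrime] [IsLocalization.AtPrime M P']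
    [IsLocalization.AtPrime L P] [Algebra.FormallyUnramified C E] (h : IsPoint P L P' ψ) (k : ℕ)
    (z : M) : ∃ l, z - ε l ∈ maximalIdeal M ^ k := by
  rcases Nat.eq_zero_or_pos k with rfl | hk
  · exact ⟨0, by simp⟩
  obtain ⟨⟨x, t⟩, ht⟩ := IsLocalization.surj P'.primeCompl z
  obtain ⟨a, ha⟩ := exists_ev_eq L k (ψ x)
  obtain ⟨b, hb⟩ := exists_ev_eq L k (ψ t)
  have ha' := h.cong_pow ε hM hεm hεC ha
  have hb' := h.cong_pow ε hM hεm hεC hb
  have htu : IsUnit (algebraMap E M (t : E)) := IsLocalization.map_units M t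
  have hbu : IsUnit b := by
    by_contra hb0
    have h1 := Ideal.add_mem _ (Ideal.pow_le_self (Nat.pos_iff_ne_zero.1 hk) hb')
      (hεm b ((mem_maximalIdeal b).2 hb0))
    rw [sub_add_cancel] at h1
    exact (mem_maximalIdeal _).1 h1 htu
  obtain ⟨c, rfl⟩ := hbu
  refine ⟨a * (↑c⁻¹ : L), (Ideal.mul_unit_mem_iff_mem _ htu).1 ?_⟩
  have h2 : ε (c : L) * ε (↑c⁻¹ : L) = 1 := by rw [← map_mul, c.mul_inv, map_one]
  have h1 : (z - ε (a * (↑c⁻¹ : L))) * algebraMap E M (t : E) =
      (algebraMap E M x - ε a) - ε (a * (↑c⁻¹ : L)) * (algebraMap E M (t : E) - ε (c : L)) := by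
    rw [map_mul]
    linear_combination ht - ε a * h2
  rw [h1]
  exact sub_mem ha' (Ideal.mul_mem_left _ _ hb')

end Point

/-- Approximation of a map into a completion on an étale algebra with a point. -/
theorem exists_point_approx {R C B : Type u} [CommRing R] [CommRing C] [CommRing B] [Algebra R C]
    [Algebra R B] [IsNoetherianRing C] [Algebra.FinitePresentation R B] (P : Ideal C) [P.IsPrime]
    (L : Type u) [CommRing L] [Algebra C L] [Algebra R L] [IsScalarTower R C L] [IsLocalRing L]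
    [IsNoetherianRing L] [IsLocalization.AtPrime L P] (hreg : CAlg.IsRegularHom C (Cpl L))
    (f : B →ₐ[R] Cpl L) (n : ℕ) :
    ∃ (E : Type u) (_ : CommRing E) (_ : Algebra C E) (_ : Algebra R E) (_ : IsScalarTower R C E)
      (P' : Ideal E) (ψ : E →ₐ[C] Cpl L) (g : B →ₐ[R] E), Algebra.Etale C E ∧ P'.IsPrime ∧
      P'.comap (algebraMap C E) = P ∧ IsPoint P L P' ψ ∧
      ∀ b, AdicCompletion.evalₐ (maximalIdeal L) n (f b) =
        AdicCompletion.evalₐ (maximalIdeal L) n (ψ (g b)) := by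
  obtain ⟨ι, q, hq, hker⟩ := Algebra.FinitePresentation.out (R := C) (A := C ⊗[R] B)
  obtain ⟨m, F, hF⟩ := Submodule.fg_iff_exists_fin_generating_family.1 hker
  let t : C ⊗[R] B →ₐ[C] Cpl L :=
    Algebra.TensorProduct.lift (Algebra.ofId C _) f fun _ _ => Commute.all _ _
  let a : Fin ι → Cpl L := fun i => t (q (MvPolynomial.X i))
  have hta : t.comp q = MvPolynomial.aeval a := MvPolynomial.algHom_ext fun i => by simp [a]
  have hFq : ∀ j, F j ∈ RingHom.ker q.toRingHom := fun j =>
    hF.le (Submodule.subset_span ⟨j, rfl⟩)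
  have ha : ∀ j, MvPolynomial.aeval a (F j) = 0 := fun j => by
    rw [← hta]
    exact (congrArg t (hFq j)).trans (map_zero t)
  obtain ⟨E, iE, aE, hE, ψ, ν, hν, b, hb, hab⟩ :=
    Groth.Calg1.Popescu.exists_etale_solution P.primeCompl hreg F a ha n
  let : Algebra R E := ((algebraMap C E).comp (algebraMap R C)).toAlgebra
  have : IsScalarTower R C E := IsScalarTower.of_algebraMap_eq fun _ => rfl
  have hq' : RingHom.ker q.toRingHom ≤ RingHom.ker (MvPolynomial.aeval b).toRingHom := by
    rw [← hF]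
    exact Submodule.span_le.2 (by rintro _ ⟨j, rfl⟩; exact hb j)
  let h₀ : C ⊗[R] B →ₐ[C] E :=
    (Ideal.Quotient.liftₐ (RingHom.ker q.toRingHom) (MvPolynomial.aeval b) fun x hx => hq' hx).comp
      (Ideal.quotientKerAlgEquivOfSurjective hq).symm.toAlgHom
  have hh₀ : ∀ x, h₀ (q x) = MvPolynomial.aeval b x := fun x => by
    have h1 : (Ideal.quotientKerAlgEquivOfSurjective hq).symm (q x) = Ideal.Quotient.mk _ x := by
      rw [AlgEquiv.symm_apply_eq]
      rfl
    exact (congrArg (Ideal.Quotient.liftₐ (RingHom.ker q.toRingHom) (MvPolynomial.aeval b)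
      fun z hz => RingHom.mem_ker.1 (hq' hz)) h1).trans rfl
  let ev : Cpl L →ₐ[C] L ⧸ maximalIdeal L ^ n :=
    (AdicCompletion.evalₐ (maximalIdeal L) n).restrictScalars C
  have hagree : ev.comp (t.comp q) = ev.comp (ψ.comp (MvPolynomial.aeval b)) := by
    refine MvPolynomial.algHom_ext fun i => ?_
    simp only [AlgHom.comp_apply, MvPolynomial.aeval_X]
    show AdicCompletion.evalₐ (maximalIdeal L) n (a i) = AdicCompletion.evalₐ (maximalIdeal L) n (ψ (b i))
    rw [← sub_eq_zero, ← map_sub, ev_eq_zero_iff, AdicCompletion.maximalIdeal_eq_map, ← Ideal.map_pow]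
    exact hab i
  refine ⟨E, iE, aE, inferInstance, inferInstance, RingHom.ker ν.toRingHom, ψ,
    (h₀.restrictScalars R).comp Algebra.TensorProduct.includeRight, hE, RingHom.ker_isPrime _, ?_,
    ⟨fun x => ?_, fun x hx => ?_⟩, fun x => ?_⟩
  · ext r
    rw [Ideal.mem_comap, RingHom.mem_ker]
    show ν (algebraMap C E r) = 0 ↔ r ∈ P
    rw [ν.commutes, IsScalarTower.algebraMap_apply C L (ResidueField L), ResidueField.algebraMap_eq,
      residue_eq_zero_iff]
    exact IsLocalization.AtPrime.to_map_mem_maximal_iff L P r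
  · obtain ⟨l, hl⟩ := residue_surjective (ν x)
    obtain ⟨⟨r, s⟩, hrs⟩ := IsLocalization.surj P.primeCompl l
    refine ⟨r, s, s.2, RingHom.mem_ker.2 ?_⟩
    show ν (algebraMap C E s * x - algebraMap C E r) = 0
    rw [map_sub, map_mul, ν.commutes, ν.commutes, sub_eq_zero, ← hl,
      IsScalarTower.algebraMap_apply C L (ResidueField L) (s : C),
      IsScalarTower.algebraMap_apply C L (ResidueField L) r, ResidueField.algebraMap_eq, ← map_mul,
      ← hrs, mul_comm]
  · rw [AdicCompletion.maximalIdeal_eq_map]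
    exact hν x hx
  · obtain ⟨y, hy⟩ := hq ((1 : C) ⊗ₜ[R] x)
    have h1 := DFunLike.congr_fun hagree y
    simp only [AlgHom.comp_apply] at h1
    rw [hy, ← hh₀, hy] at h1
    have h2 : t ((1 : C) ⊗ₜ[R] x) = f x := by simp [t]
    rw [h2] at h1
    exact h1

end Groth.Agent.Misc12.EtNbhdApprox
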