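import Mathlib
import Groth.Agent.AdicLinTop.CompletionQuot

/-!
Truncations of maps into completed local rings.
-/

set_option autoImplicit false

universe u

open IsLocalRing

namespace Groth.Agent.Misc12.EtNbhdApprox

variable (L : Type u) [CommRing L] [IsLocalRing L] [IsNoetherianRing L]

/-- The completion of a local ring. -/
abbrev Cpl : Type u := AdicCompletion (maximalIdeal L) L

theorem ev_algebraMap (n : ℕ) (l : L) :
    AdicCompletion.evalₐ (maximalIdeal L) n (algebraMap L (Cpl L) l) =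
      Ideal.Quotient.mk (maximalIdeal L ^ n) l :=
  Groth.AdicLinTop.CompletionQuot.evalₐ_algebraMap (maximalIdeal L) n l

theorem ev_eq_zero_iff (n : ℕ) (x : Cpl L) :
    AdicCompletion.evalₐ (maximalIdeal L) n x = 0 ↔ x ∈ maximalIdeal (Cpl L) ^ n := by
  rw [AdicCompletion.maximalIdeal_eq_map,
    ← Groth.AdicLinTop.CompletionQuot.ker_evalₐ (maximalIdeal L) (IsNoetherian.noetherian _) n]
  rfl

theorem exists_ev_eq (n : ℕ) (x : Cpl L) :
    ∃ l : L, AdicCompletion.evalₐ (maximalIdeal L) n x = Ideal.Quotient.mk (maximalIdeal L ^ n) l :=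
  ⟨_, (Ideal.Quotient.mk_surjective _).choose_spec.symm⟩

variable {L}

theorem map_pow_le {K K' : Type u} [CommRing K] [CommRing K'] [IsLocalRing K] [IsLocalRing K']
    (h : K →+* K') (hh : ∀ a ∈ maximalIdeal K, h a ∈ maximalIdeal K') (n : ℕ) {a : K}
    (ha : a ∈ maximalIdeal K ^ n) : h a ∈ maximalIdeal K' ^ n := by
  have h1 : (maximalIdeal K).map h ≤ maximalIdeal K' := Ideal.map_le_iff_le_comap.2 hh
  have h2 := Ideal.mem_map_of_mem h ha
  rw [Ideal.map_pow] at h2
  exact Ideal.pow_right_mono h1 n h2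

/-- A local map into a completion, modulo `n`th powers. -/
noncomputable def trunc {K : Type u} [CommRing K] [IsLocalRing K] (h : K →+* Cpl L)
    (hh : ∀ a ∈ maximalIdeal K, h a ∈ maximalIdeal (Cpl L)) (n : ℕ) :
    K ⧸ maximalIdeal K ^ n →+* L ⧸ maximalIdeal L ^ n :=
  Ideal.Quotient.lift _ ((AdicCompletion.evalₐ (maximalIdeal L) n).toRingHom.comp h)
    fun _ ha => (ev_eq_zero_iff L n _).2 (map_pow_le h hh n ha)

theorem trunc_mk {K : Type u} [CommRing K] [IsLocalRing K] (h : K →+* Cpl L)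
    (hh : ∀ a ∈ maximalIdeal K, h a ∈ maximalIdeal (Cpl L)) (n : ℕ) (a : K) :
    trunc h hh n (Ideal.Quotient.mk _ a) = AdicCompletion.evalₐ (maximalIdeal L) n (h a) :=
  rfl

theorem ringEquiv_mem_maximalIdeal {K K' : Type u} [CommRing K] [CommRing K'] [IsLocalRing K]
    [IsLocalRing K'] (e : K ≃+* K') {a : K} (ha : a ∈ maximalIdeal K) : e a ∈ maximalIdeal K' := by
  rw [mem_maximalIdeal, mem_nonunits_iff] at ha ⊢
  exact fun h => ha (by simpa using h.map e.symm)

theorem ev_ringEquiv {K : Type u} [CommRing K] [IsLocalRing K] [IsNoetherianRing K]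
    (e : Cpl K ≃+* Cpl L) (n : ℕ) {x y : Cpl K}
    (h : AdicCompletion.evalₐ (maximalIdeal K) n x = AdicCompletion.evalₐ (maximalIdeal K) n y) :
    AdicCompletion.evalₐ (maximalIdeal L) n (e x) = AdicCompletion.evalₐ (maximalIdeal L) n (e y) := by
  rw [← sub_eq_zero, ← map_sub, ev_eq_zero_iff] at h
  rw [← sub_eq_zero, ← map_sub, ← map_sub, ev_eq_zero_iff]
  exact map_pow_le e.toRingHom (fun a ha => ringEquiv_mem_maximalIdeal e ha) n h

theorem algebraMap_mem {a : L} (ha : a ∈ maximalIdeal L) :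
    algebraMap L (Cpl L) a ∈ maximalIdeal (Cpl L) := by
  rw [AdicCompletion.maximalIdeal_eq_map]
  exact Ideal.mem_map_of_mem _ ha

/-- The isomorphism of truncations induced by an isomorphism of completions. -/
theorem trunc_ringEquiv_bijective {K : Type u} [CommRing K] [IsLocalRing K] [IsNoetherianRing K]
    (e : Cpl K ≃+* Cpl L) (n : ℕ) :
    Function.Bijective (trunc (e.toRingHom.comp (algebraMap K (Cpl K)))
      (fun _ ha => ringEquiv_mem_maximalIdeal e (algebraMap_mem ha)) n) := by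
  let g := trunc (e.symm.toRingHom.comp (algebraMap L (Cpl L)))
    (fun _ ha => ringEquiv_mem_maximalIdeal e.symm (algebraMap_mem ha)) n
  let f := trunc (e.toRingHom.comp (algebraMap K (Cpl K)))
    (fun _ ha => ringEquiv_mem_maximalIdeal e (algebraMap_mem ha)) n
  have hgf : ∀ x, g (f x) = x := by
    intro x
    obtain ⟨a, rfl⟩ := Ideal.Quotient.mk_surjective x
    obtain ⟨l, hl⟩ := exists_ev_eq L n (e (algebraMap K (Cpl K) a))
    show g (AdicCompletion.evalₐ (maximalIdeal L) n (e (algebraMap K (Cpl K) a))) = _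
    rw [hl]
    show AdicCompletion.evalₐ (maximalIdeal K) n (e.symm (algebraMap L (Cpl L) l)) = _
    rw [← ev_algebraMap L n l] at hl
    rw [← ev_ringEquiv e.symm n hl, e.symm_apply_apply, ev_algebraMap]
  have hfg : ∀ y, f (g y) = y := by
    intro y
    obtain ⟨l, rfl⟩ := Ideal.Quotient.mk_surjective y
    obtain ⟨a, ha⟩ := exists_ev_eq K n (e.symm (algebraMap L (Cpl L) l))
    show f (AdicCompletion.evalₐ (maximalIdeal K) n (e.symm (algebraMap L (Cpl L) l))) = _
    rw [ha]
    show AdicCompletion.evalₐ (maximalIdeal L) n (e (algebraMap K (Cpl K) a)) = _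
    rw [← ev_algebraMap K n a] at ha
    rw [← ev_ringEquiv e n ha, e.apply_symm_apply, ev_algebraMap]
  exact ⟨Function.LeftInverse.injective hgf, Function.RightInverse.surjective hfg⟩

/-- Surjectivity modulo the square of the maximal ideal gives surjectivity modulo all powers. -/
theorem exists_sub_mem_pow {K M : Type u} [CommRing K] [CommRing M] [IsLocalRing K] [IsLocalRing M]
    (ε : K →+* M) (hε : ∀ a ∈ maximalIdeal K, ε a ∈ maximalIdeal M)
    (hres : ∀ z : M, ∃ a, z - ε a ∈ maximalIdeal M)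
    (h2 : ∀ z ∈ maximalIdeal M, ∃ a ∈ maximalIdeal K, z - ε a ∈ maximalIdeal M ^ 2)
    (n : ℕ) (z : M) : ∃ a, z - ε a ∈ maximalIdeal M ^ n := by
  have key : ∀ k, ∀ z ∈ maximalIdeal M ^ k,
      ∃ a ∈ maximalIdeal K ^ k, z - ε a ∈ maximalIdeal M ^ (k + 1) := by
    intro k
    induction k with
    | zero =>
      intro z _
      obtain ⟨a, ha⟩ := hres z
      exact ⟨a, by simp, by simpa using ha⟩
    | succ k ih =>
      intro z hz
      rw [pow_succ] at hz
      induction hz using Submodule.mul_induction_on' with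
      | mem_mul_mem x hx y hy =>
        obtain ⟨a, ha, hxa⟩ := ih x hx
        obtain ⟨b, hb, hyb⟩ := h2 y hy
        refine ⟨a * b, by rw [pow_succ]; exact Ideal.mul_mem_mul ha hb, ?_⟩
        have h3 : x * y - ε (a * b) = (x - ε a) * y + ε a * (y - ε b) := by rw [map_mul]; ring
        rw [h3]
        refine add_mem ?_ ?_
        · rw [pow_succ]; exact Ideal.mul_mem_mul hxa hy
        · rw [show k + 1 + 1 = k + 2 from rfl, pow_add]
          exact Ideal.mul_mem_mul (map_pow_le ε hε k ha) hyb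
      | add x _ y _ hx hy =>
        obtain ⟨a, ha, hxa⟩ := hx
        obtain ⟨b, hb, hyb⟩ := hy
        exact ⟨a + b, add_mem ha hb, by rw [map_add, add_sub_add_comm]; exact add_mem hxa hyb⟩
  induction n with
  | zero => exact ⟨0, by simp⟩
  | succ n ih =>
    obtain ⟨a, ha⟩ := ih
    obtain ⟨b, -, hb⟩ := key n _ ha
    exact ⟨a + b, by rwa [map_add, ← sub_sub]⟩

end Groth.Agent.Misc12.EtNbhdApprox
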