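import Groth.Agent.Misc12.EtNbhdApprox.CplMap
import Groth.Agent.Misc12.EtNbhdApprox.Chart
import Groth.Agent.Ega4Algebra1.GRingDescent
import Groth.Agent.Ega4Algebra1.ExcellentLoc
import Groth.Agent.Calg1.Popescu.Popescu
import Groth.Agent.Ega4Algebra2.GRingFiniteType

/-!
An étale algebra over two base changes to a completion, from an isomorphism of completions.
-/

set_option autoImplicit false

universe u

open IsLocalRing
open scoped TensorProduct

namespace Groth.Agent.Misc12.EtNbhdApprox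

variable (L : Type u) [CommRing L] [IsLocalRing L]

/-- The residue map of the completion. -/
noncomputable def resCpl : Cpl L →+* ResidueField L :=
  (Ideal.Quotient.factor (pow_one (maximalIdeal L)).le).comp (AdicCompletion.evalₐ (maximalIdeal L) 1).toRingHom

theorem resCpl_algebraMap (a : L) : resCpl L (algebraMap L (Cpl L) a) = residue L a := by
  show Ideal.Quotient.factor (pow_one (maximalIdeal L)).le
    (AdicCompletion.evalₐ (maximalIdeal L) 1 (algebraMap L (Cpl L) a)) = _
  rw [Groth.AdicLinTop.CompletionQuot.evalₐ_algebraMap]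
  rfl

theorem resCpl_eq_zero [IsNoetherianRing L] {x : Cpl L} :
    resCpl L x = 0 ↔ x ∈ maximalIdeal (Cpl L) := by
  obtain ⟨a, ha⟩ := exists_ev_eq L 1 x
  have h1 : resCpl L x = residue L a := by
    show Ideal.Quotient.factor (pow_one (maximalIdeal L)).le (AdicCompletion.evalₐ (maximalIdeal L) 1 x) = _
    rw [ha]
    rfl
  rw [h1, residue_eq_zero_iff, ← pow_one (maximalIdeal (Cpl L)), ← ev_eq_zero_iff, ha,
    Ideal.Quotient.eq_zero_iff_mem, pow_one]

variable {L}

/-- A smooth algebra with a point in the completion gives an étale algebra with a residual point. -/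
theorem exists_etale_section {R LS : Type u} [CommRing R] [IsNoetherianRing R] [CommRing LS]
    [IsLocalRing LS] [IsNoetherianRing LS] [Algebra R LS] (Q : Ideal R) [Q.IsPrime]
    [IsLocalization.AtPrime LS Q] (hG : CAlg.IsGRing LS) (K : Type u) [CommRing K] [Algebra R K]
    [Algebra.FiniteType R K] (h : K →ₐ[R] Cpl LS) :
    ∃ (ES : Type u) (_ : CommRing ES) (_ : Algebra R ES) (g : K →ₐ[R] ES) (ν : ES →ₐ[R] ResidueField LS),
      Algebra.Etale R ES ∧ ∀ k, ν (g k) = resCpl LS (h k) := by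
  have : IsNoetherianRing (Cpl LS) := Groth.Agent.S0543.result LS (maximalIdeal LS)
  have : Algebra.FinitePresentation R K := Algebra.FinitePresentation.of_finiteType.1 inferInstance
  obtain ⟨D, _, _, hD, g₀, hh, hgh⟩ :=
    Groth.Calg1.Popescu.indSmooth_of_regularHom (isRegularHom_cpl Q LS hG) K inferInstance h
  let σ : D →ₐ[R] LS ⧸ maximalIdeal LS :=
    { (resCpl LS).comp hh.toRingHom with
      commutes' := fun r => by
        show resCpl LS (hh (algebraMap R D r)) = algebraMap R (ResidueField LS) r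
        rw [hh.commutes, IsScalarTower.algebraMap_apply R LS (Cpl LS), resCpl_algebraMap]
        rfl }
  obtain ⟨ES, _, _, τ, ρ, hES, hρ⟩ :=
    Groth.Calg1.Popescu.exists_etale_point Q.primeCompl (maximalIdeal LS) σ
  refine ⟨ES, inferInstance, inferInstance, τ.comp g₀, ρ, hES, fun k => ?_⟩
  show ρ (τ (g₀ k)) = _
  rw [← AlgHom.comp_apply ρ τ, hρ]
  show resCpl LS (hh (g₀ k)) = _
  rw [← AlgHom.comp_apply hh g₀, hgh]

theorem isGRing_cpl (LS : Type u) [CommRing LS] [IsLocalRing LS] [IsNoetherianRing LS] :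
    CAlg.IsGRing (Cpl LS) := by
  have : IsNoetherianRing (Cpl LS) := Groth.Agent.S0543.result LS (maximalIdeal LS)
  have : IsAdicComplete (maximalIdeal (Cpl LS)) (Cpl LS) := by
    rw [AdicCompletion.maximalIdeal_eq_map]
    exact Groth.AdicLinTop.CompletionQuot.isAdicComplete_map _ (IsNoetherian.noetherian _)
  exact Groth.Ega4Algebra1.completeFT (Cpl LS) (Cpl LS)

set_option maxHeartbeats 1000000 in
/-- The common étale algebra over the completion. -/
theorem exists_upstairs {R LS C T B : Type u} [CommRing R] [CommRing LS] [IsLocalRing LS]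
    [IsNoetherianRing LS] [Algebra R LS] [CommRing C] [Algebra R C] [Algebra.FiniteType R C]
    [CommRing T] [Algebra T (Cpl LS)] [CommRing B] [Algebra T B] [Algebra.FiniteType T B]
    (Q : Ideal R) [Q.IsPrime] [IsLocalization.AtPrime LS Q]
    (P : Ideal C) [P.IsPrime] (L : Type u) [CommRing L] [IsLocalRing L] [IsNoetherianRing L]
    [Algebra C L] [IsLocalization.AtPrime L P]
    (ε : LS →+* L) (hε : ∀ a ∈ maximalIdeal LS, ε a ∈ maximalIdeal L)
    (hεR : ∀ r, ε (algebraMap R LS r) = algebraMap C L (algebraMap R C r))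
    (Q' : Ideal (Cpl LS ⊗[T] B)) [Q'.IsPrime] (K : Type u) [CommRing K] [IsLocalRing K]
    [IsNoetherianRing K] [Algebra (Cpl LS ⊗[T] B) K] [IsLocalization.AtPrime K Q']
    (φ : Cpl L ≃+* Cpl K)
    (hφ : ∀ a, φ (algebraMap L (Cpl L) (ε a)) =
      algebraMap K (Cpl K) (algebraMap (Cpl LS ⊗[T] B) K (algebraMap LS (Cpl LS) a ⊗ₜ 1))) :
    ∃ (E' : Type u) (_ : CommRing E') (_ : Algebra (Cpl LS) E') (_ : Algebra (Cpl LS ⊗[R] C) E')
      (_ : Algebra (Cpl LS ⊗[T] B) E') (_ : IsScalarTower (Cpl LS) (Cpl LS ⊗[R] C) E')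
      (_ : IsScalarTower (Cpl LS) (Cpl LS ⊗[T] B) E') (χ : E' →+* ResidueField L),
      Algebra.Etale (Cpl LS ⊗[R] C) E' ∧ Algebra.Etale (Cpl LS ⊗[T] B) E' ∧
      (∀ c, χ (algebraMap (Cpl LS ⊗[R] C) E' ((1 : Cpl LS) ⊗ₜ c)) = residue L (algebraMap C L c)) ∧
      (∀ a, χ (algebraMap (Cpl LS) E' (algebraMap LS (Cpl LS) a)) = residue L (ε a)) ∧
      (∀ x, χ (algebraMap (Cpl LS ⊗[T] B) E' x) = 0 ↔ x ∈ Q') ∧
      ∀ z, ∃ b s, s ∉ Q' ∧ z * χ (algebraMap (Cpl LS ⊗[T] B) E' s) = χ (algebraMap (Cpl LS ⊗[T] B) E' b) := by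
  have : IsNoetherianRing (Cpl LS) := Groth.Agent.S0543.result LS (maximalIdeal LS)
  let C' := Cpl LS ⊗[R] C
  let B' := Cpl LS ⊗[T] B
  obtain ⟨P', hP', r, hP'r, hr1, hΦ⟩ := exists_baseChange_equiv Q P L ε hε hεR
  have hGC : CAlg.IsGRing C' := Groth.Ega4Algebra1.isGRing_of_finiteType (Cpl LS) (isGRing_cpl LS) C'
  have : IsNoetherianRing C' := hGC.1
  obtain ⟨L', _, _, _, hGL⟩ : ∃ (L' : Type u) (_ : CommRing L') (_ : Algebra C' L')
      (_ : IsLocalization.AtPrime L' P'), CAlg.IsGRing L' :=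
    ⟨Localization.AtPrime P', inferInstance, inferInstance, inferInstance,
      Groth.Ega4Algebra1.isGRing_localization hGC P'.primeCompl⟩
  have : IsLocalRing L' := IsLocalization.AtPrime.isLocalRing L' P'
  let : Algebra (Cpl LS) L' := ((algebraMap C' L').comp (algebraMap (Cpl LS) C')).toAlgebra
  have : IsScalarTower (Cpl LS) C' L' := @IsScalarTower.of_algebraMap_eq' (Cpl LS) C' L' _ _ _ _ _ _ rfl
  have : IsNoetherianRing L' := hGL.1
  obtain ⟨Φ, hΦC, hΦS⟩ := hΦ L'
  let φ' : Cpl K ≃+* Cpl L' := φ.symm.trans Φ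
  have : IsNoetherianRing B' := Algebra.FiniteType.isNoetherianRing (Cpl LS) B'
  have : Algebra.FinitePresentation (Cpl LS) B' := Algebra.FinitePresentation.of_finiteType.1 inferInstance
  -- the map to approximate
  let κB : B' →+* Cpl L' := φ'.toRingHom.comp ((algebraMap K (Cpl K)).comp (algebraMap B' K))
  let g₁ : Cpl LS →+* Cpl L' := κB.comp (algebraMap (Cpl LS) B')
  let g₂ : Cpl LS →+* Cpl L' := (algebraMap L' (Cpl L')).comp (algebraMap (Cpl LS) L')
  have hgS : g₁.comp (algebraMap LS (Cpl LS)) = g₂.comp (algebraMap LS (Cpl LS)) := RingHom.ext fun a => by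
    show Φ (φ.symm (algebraMap K (Cpl K) (algebraMap B' K (algebraMap LS (Cpl LS) a ⊗ₜ 1)))) = _
    rw [← hφ, φ.symm_apply_apply, hΦS]
    show _ = algebraMap L' (Cpl L') (algebraMap (Cpl LS) L' (algebraMap LS (Cpl LS) a))
    rw [IsScalarTower.algebraMap_apply (Cpl LS) C' L']
    rfl
  have hloc : ∀ (g : Cpl LS →+* Cpl L'),
      g.comp (algebraMap LS (Cpl LS)) = g₂.comp (algebraMap LS (Cpl LS)) →
      ∀ a ∈ maximalIdeal (Cpl LS), g a ∈ maximalIdeal (Cpl L') := by
    intro g hg a ha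
    rw [AdicCompletion.maximalIdeal_eq_map] at ha
    refine (Ideal.map_le_iff_le_comap.2 fun x hx => ?_ :
      (maximalIdeal LS).map (algebraMap LS (Cpl LS)) ≤ (maximalIdeal (Cpl L')).comap g) ha
    show g (algebraMap LS (Cpl LS) x) ∈ maximalIdeal (Cpl L')
    rw [← RingHom.comp_apply, hg, ← hgS]
    show Φ (φ.symm (algebraMap K (Cpl K) (algebraMap B' K (algebraMap LS (Cpl LS) x ⊗ₜ 1)))) ∈ _
    rw [← hφ, φ.symm_apply_apply]
    exact ringEquiv_mem_maximalIdeal Φ (algebraMap_mem (hε x hx))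
  have hg : g₁ = g₂ := ringHom_ext_cpl g₁ g₂ (hloc g₁ hgS) (hloc g₂ rfl) hgS
  let f : B' →ₐ[Cpl LS] Cpl L' :=
    { κB with
      commutes' := fun l => (RingHom.congr_fun hg l).trans
        (IsScalarTower.algebraMap_apply (Cpl LS) L' (Cpl L') l).symm }
  obtain ⟨E, _, _, _, _, P'', ψ, g, hE, hP''p, hcomap, hpt, happrox⟩ :=
    exists_point_approx P' L' (isRegularHom_cpl P' L' hGL) f 2
  let : Algebra B' E := g.toRingHom.toAlgebra
  have : IsScalarTower (Cpl LS) B' E := IsScalarTower.of_algebraMap_eq fun l => (g.commutes l).symm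
  have : Algebra.FinitePresentation C' E := hE.finitePresentation
  have : Algebra.FiniteType (Cpl LS) E := Algebra.FiniteType.trans (S := C') inferInstance inferInstance
  have : Algebra.FiniteType B' E := Algebra.FiniteType.of_restrictScalars_finiteType (Cpl LS) B' E
  have : IsNoetherianRing E := Algebra.FiniteType.isNoetherianRing B' E
  have : Algebra.FinitePresentation B' E := Algebra.FinitePresentation.of_finiteType.1 inferInstance
  have hEt : Algebra.IsEtaleAt B' P'' :=
    isEtaleAt_of_approx P' L' P'' ψ Q' K hpt hcomap φ' le_rfl happrox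
  obtain ⟨h, hh, hE'⟩ := Algebra.exists_etale_of_isEtaleAt (R := B') P''
  let E' := Localization.Away h
  let χ₀ : E →+* ResidueField L := (resCpl L).comp (Φ.symm.toRingHom.comp ψ.toRingHom)
  have hχu : ∀ t ∉ P'', IsUnit (χ₀ t) := fun t ht =>
    ((hpt.isUnit hcomap ht).map Φ.symm.toRingHom).map (resCpl L)
  let χ : E' →+* ResidueField L := IsLocalization.Away.lift h (hχu h hh)
  have hχ : ∀ x, χ (algebraMap E E' x) = χ₀ x := IsLocalization.Away.lift_eq h (hχu h hh)
  have : Algebra.Etale C' E' := Algebra.Etale.comp C' E E'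
  have hB : ∀ x : B', χ (algebraMap B' E' x) = resCpl L (φ.symm (algebraMap K (Cpl K) (algebraMap B' K x))) := by
    intro x
    rw [IsScalarTower.algebraMap_apply B' E E', hχ]
    have h1 := happrox x
    rw [← sub_eq_zero, ← map_sub, ev_eq_zero_iff] at h1
    have h2 := (resCpl_eq_zero L).2
      (ringEquiv_mem_maximalIdeal Φ.symm (Ideal.pow_le_self two_ne_zero h1))
    rw [map_sub, map_sub, sub_eq_zero] at h2
    show resCpl L (Φ.symm (ψ (g x))) = _
    rw [← h2]
    exact congrArg (resCpl L) (Φ.symm_apply_apply _)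
  refine ⟨E', inferInstance, inferInstance, inferInstance, inferInstance, inferInstance, inferInstance, χ,
    inferInstance, inferInstance, fun c => ?_, fun a => ?_, fun x => ?_, fun z => ?_⟩
  · rw [IsScalarTower.algebraMap_apply C' E E', hχ]
    show resCpl L (Φ.symm (ψ (algebraMap C' E ((1 : Cpl LS) ⊗ₜ c)))) = _
    rw [ψ.commutes, IsScalarTower.algebraMap_apply C' L' (Cpl L'), ← hΦC, Φ.symm_apply_apply, resCpl_algebraMap]
  · rw [IsScalarTower.algebraMap_apply (Cpl LS) C' E', IsScalarTower.algebraMap_apply C' E E', hχ]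
    show resCpl L (Φ.symm (ψ (algebraMap C' E (algebraMap LS (Cpl LS) a ⊗ₜ 1)))) = _
    rw [ψ.commutes, IsScalarTower.algebraMap_apply C' L' (Cpl L'), ← hΦS, Φ.symm_apply_apply, resCpl_algebraMap]
  · rw [hB, resCpl_eq_zero]
    constructor
    · intro hx
      have h1 := ringEquiv_mem_maximalIdeal φ hx
      rw [φ.apply_symm_apply] at h1
      refine (IsLocalization.AtPrime.to_map_mem_maximal_iff K Q' x).1 ?_
      rw [mem_maximalIdeal, mem_nonunits_iff] at h1 ⊢
      exact fun hu => h1 (hu.map _)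
    · exact fun hx => ringEquiv_mem_maximalIdeal φ.symm
        (algebraMap_mem ((IsLocalization.AtPrime.to_map_mem_maximal_iff K Q' x).2 hx))
  · obtain ⟨l, rfl⟩ := residue_surjective z
    obtain ⟨k, hk⟩ := exists_ev_eq K 1 (φ (algebraMap L (Cpl L) l))
    rw [← ev_algebraMap K 1 k, ← sub_eq_zero, ← map_sub, ev_eq_zero_iff, pow_one] at hk
    obtain ⟨⟨b, s⟩, hbs⟩ := IsLocalization.surj Q'.primeCompl k
    refine ⟨b, s, s.2, ?_⟩
    have h2 := (resCpl_eq_zero L).2 (ringEquiv_mem_maximalIdeal φ.symm hk)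
    rw [map_sub, map_sub, sub_eq_zero, φ.symm_apply_apply, resCpl_algebraMap] at h2
    rw [h2, hB, hB, ← map_mul, ← map_mul, ← map_mul, hbs]

end Groth.Agent.Misc12.EtNbhdApprox
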